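import Groth.Agent.S0981
import Groth.Agent.Flat2B.SmoothGeom
import Groth.Prelude.Def_ClSub2
import Mathlib.AlgebraicGeometry.Geometrically.Connected

/-!
# `O_S = f_* O_X` for a proper smooth morphism with geometrically connected fibres
-/

set_option autoImplicit false
universe u
open CategoryTheory CategoryTheory.Limits AlgebraicGeometry

namespace K333.Stein

variable {X S : Scheme.{u}} (f : X ⟶ S)

/-- `O_S ⟶ f_* O_X` is an isomorphism on sections for `f` proper, smooth, geometrically connected. -/
theorem isIso_app [IsProper f] [Smooth f] [GeometricallyConnected f] (V : S.Opens) :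
    IsIso (f.app V) := by
  refine Groth.Agent.S0981.result f (fun K _ _ g => ⟨?_, ?_⟩) V
  · exact Groth.Agent.Flat2B.SmoothGeom.isReduced_of_smooth (pullback.snd f g)
  · exact GeometricallyConnected.geometrically_connectedSpace _ _ _ (.of_hasPullback _ _)

theorem bijective_app [IsProper f] [Smooth f] [GeometricallyConnected f] (V : S.Opens) :
    Function.Bijective (f.app V) := by
  have := isIso_app f V
  exact ConcreteCategory.bijective_of_isIso (f.app V)

/-- a morphism with `O_S(V) ⟶ O_X(f⁻¹ V)` bijective for all `V` has `unitToPush` an isomorphism. -/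
theorem isIso_unitToPush_of_app (h : ∀ V : S.Opens, Function.Bijective (f.app V)) :
    IsIso (ClSub.unitToPush f) := by
  rw [Scheme.Modules.Hom.isIso_iff_isIso_app]
  intro U
  rw [ConcreteCategory.isIso_iff_bijective]
  exact h U

theorem isIso_unitToPush [IsProper f] [Smooth f] [GeometricallyConnected f] :
    IsIso (ClSub.unitToPush f) :=
  isIso_unitToPush_of_app f (bijective_app f)

end K333.Stein
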