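import Groth.Agent.Grpsch.PicGrp
import Groth.Agent.PerfA.QCohEpi
import Groth.Agent.Ega2.QCohLocal
import Groth.Agent.VarietyB.ProjForm
import Groth.Agent.Curves.K333.Stein

/-!
# Epimorphisms of invertible modules; modules which become trivial after pullback
-/

set_option autoImplicit false
universe u
open CategoryTheory CategoryTheory.Limits AlgebraicGeometry Opposite

namespace K333.InvEpi

open Groth.Agent Groth.Agent.Fdesc.LocGen

/-- An epimorphism between invertible modules is an isomorphism. -/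
theorem isIso_of_epi {X : Scheme.{u}} {L M : X.Modules} (hL : PicF.IsInvertible L)
    (hM : PicF.IsInvertible M) (φ : L ⟶ M) [Epi φ] : IsIso φ := by
  have hLq : Coh.IsQCoh L := Ega2.QCohLocal.isQCoh_of_isInvertible hL
  have hMq : Coh.IsQCoh M := Ega2.QCohLocal.isQCoh_of_isInvertible hM
  rw [isInvertible_iff] at hL hM
  refine Grpsch.PicGrp.isIso_of_isGen φ fun x => ?_
  obtain ⟨U, e, hx, he⟩ := hL x
  obtain ⟨U', e', hx', he'⟩ := hM x
  obtain ⟨V, hV, hxV, hVU⟩ := exists_isAffineOpen_mem_and_subset (x := x) (U := U ⊓ U') ⟨hx, hx'⟩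
  have hVU1 : V ≤ U := fun y hy => (hVU hy).1
  have hVU2 : V ≤ U' := fun y hy => (hVU hy).2
  have h1 := he.res hVU1
  have h2 := he'.res hVU2
  obtain ⟨s, hs⟩ := PerfA.QCohEpi.app_surjective_of_epi φ hV (res M hVU2 e')
  obtain ⟨b, rfl⟩ := h1.bijective.2 s
  obtain ⟨a, ha⟩ := h2.bijective.2 (φ.app V (res L hVU1 e))
  dsimp only at hs ha
  have h3 : b * a = 1 := by
    apply h2.bijective.1
    dsimp only
    rw [mul_smul, ha, one_smul, ← hs]
    exact (Scheme.Modules.Hom.app_smul φ b (res L hVU1 e)).symm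
  refine ⟨V, res L hVU1 e, hxV, h1, ?_⟩
  rw [← ha]
  intro W hW
  have h4 : IsUnit (ores hW a) := by
    refine IsUnit.of_mul_eq_one (ores hW b) ?_
    rw [mul_comm, ← map_mul, h3, map_one]
  obtain ⟨w, hw⟩ := h4
  have h5 := h2 W hW
  have h6 : (fun c : Γ(X, W) => c • res M hW (a • res M hVU2 e')) =
      (fun c : Γ(X, W) => c • res M hW (res M hVU2 e')) ∘ (fun c => c * (w : Γ(X, W))) := by
    funext c
    dsimp only [Function.comp_apply]
    rw [res_smul, ← hw, mul_smul]
  rw [h6]
  exact h5.comp (Units.mulRight_bijective w)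

/-- If `f_* O_X = O_S` and `f^* N` is trivial then the invertible module `N` is trivial. -/
theorem nonempty_iso_of_pullback {X S : Scheme.{u}} (f : X ⟶ S) (hf : IsIso (ClSub.unitToPush f))
    {N : S.Modules} (hN : PicF.IsInvertible N)
    (h : Nonempty ((Scheme.Modules.pullback f).obj N ≅ Coh.structureModule X)) :
    Nonempty (N ≅ Coh.structureModule S) := by
  obtain ⟨e⟩ := h
  have hB : VarietyB.TensCoh.HasBases N := VarietyB.TensCoh.HasBases.of_isFinLocFreeOfRank
    (Ega2.QCohLocal.isFinLocFreeOfRank_one_iff.2 hN)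
  let e1 : Coh.structureModule S ≅ (Scheme.Modules.pushforward f).obj (Coh.structureModule X) :=
    asIso (ClSub.unitToPush f)
  exact ⟨(Ega2.Tens.runit N).symm ≪≫ (Ega2.Tens.mapTIso (Iso.refl N) e1) ≪≫
    VarietyB.ProjForm.projIsoUnit f hB ≪≫ (Scheme.Modules.pushforward f).mapIso e ≪≫ e1.symm⟩

end K333.InvEpi
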