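import Groth.Agent.Curves.K333.Fam
import Groth.Agent.S1611
import Groth.Agent.S1612
import Groth.Agent.S1532
import Groth.Agent.S1530
import Groth.Agent.Ega3A.PChart
import Groth.Agent.Dix.IdealModCartier
import Groth.Agent.Fga.TensorList
import Groth.Agent.Fga.EulerIso
import Groth.Agent.VarietyA.StalkCrit
import Groth.Agent.CycB.PushStalk
import Groth.Agent.CohqB.HSeqMod
import Groth.Agent.Fdesc.LocGenTensor
import Groth.Agent.CurvesB.OmegaInv
import Groth.Prelude.Def_LCI2

/-!
# Powers of the canonical sheaf on a smooth curve over a field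
-/

set_option autoImplicit false
universe u
open CategoryTheory CategoryTheory.Limits AlgebraicGeometry

namespace K333.FibreVA

open Groth.Agent Groth.Agent.Pi1.H536 K333.Fam

theorem geometricallyIntegral {X S : Scheme.{u}} (f : X ⟶ S) [Smooth f] [GeometricallyConnected f] :
    GeometricallyIntegral f := by
  refine ⟨fun K _ y Z fst snd h => ?_⟩
  have h1 : Smooth snd := MorphismProperty.of_isPullback h inferInstance
  have h2 : GeometricallyConnected snd := MorphismProperty.of_isPullback h inferInstance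
  have h3 : ConnectedSpace Z := GeometricallyConnected.connectedSpace_of_subsingleton snd
  exact CurveFam.isIntegral_of_smooth K snd

/-- A closed immersion into `P^n_k` gives very ampleness in the projective space form. -/
theorem isRelVeryAmplePn_of_closedImmersion {A : Type u} [CommRing A] {X : Scheme.{u}}
    (p : X ⟶ Spec (CommRingCat.of A)) (L : X.Modules) {n : ℕ} (i : X ⟶ CohB1.ProjSpace n A)
    (hi : IsClosedImmersion i) (hp : i ≫ CohB1.ProjSpace.toSpec n A = p)
    (e : Nonempty ((Scheme.Modules.pullback i).obj (Twist.twistProjSpace n A 1) ≅ L)) :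
    RelAmple.IsRelVeryAmplePn p L := by
  obtain ⟨e⟩ := e
  let c := Ega3A.PChart.chart n (𝟙 (Spec (CommRingCat.of A)))
  refine ⟨n, i ≫ c, inferInstance, ?_, ⟨?_⟩⟩
  · have h1 := Ega3A.PChart.chart_toBase n (𝟙 (Spec (CommRingCat.of A)))
    rw [Category.comp_id] at h1
    refine (Category.assoc i c (CohB1.ProjSpaceOver.toBase n (Spec (CommRingCat.of A)))).trans ?_
    exact (congrArg (i ≫ ·) h1).trans hp
  · exact e.symm ≪≫ (Scheme.Modules.pullback i).mapIso (Ega3A.PChart.chartTwistIso n _ 1).symm ≪≫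
      (Scheme.Modules.pullbackComp i c).app _

section Field

variable (k : Type u) [Field k] (X : Scheme.{u}) [X.Over (Spec (CommRingCat.of k))]

omit [X.Over (Spec (CommRingCat.of k))] in
theorem subsingleton_quotMod_top [X.Over (Spec (CommRingCat.of k))] :
    Subsingleton (Coh.HH X (ClSub.quotMod (⊤ : X.IdealSheafData)) 0) := by
  have hE : IsEmpty (⊤ : X.IdealSheafData).subscheme := inferInstance
  have hz : IsZero (ClSub.quotMod (⊤ : X.IdealSheafData)) := by
    refine VarietyA.StalkCrit.isZero_of_stalks _ fun x => ?_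
    refine CycB.PushStalk.subsingleton_stalk_push (⊤ : X.IdealSheafData).subschemeι _ x ?_
    rw [Set.range_eq_empty, closure_empty]
    exact Set.notMem_empty x
  have h1 : 𝟙 (ClSub.quotMod (⊤ : X.IdealSheafData)) = 0 := hz.eq_of_src _ _
  refine subsingleton_of_forall_eq 0 fun x => ?_
  rw [← CohqB.HSeqMod.hmap_id_apply 0 x, h1, CohqB.HSeqMod.hmap_zero_apply]

theorem nonempty_idealMod_top : Nonempty (ClSub.idealMod (⊤ : X.IdealSheafData) ≅ Coh.structureModule X) := by
  obtain ⟨e⟩ := Dix.IdealModCartier.idealMod_principal (X := X) (D := ⊤) (a := 1) (by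
    intro W hW
    rw [map_one]
    refine ⟨one_mem _, ?_⟩
    rw [Ideal.span_singleton_one]
    rfl)
  exact ⟨e.symm⟩

/-- `H^1(X, L) = 0` for `deg L > 2g - 2`. -/
theorem subsingleton_h1 [IsProper (X ↘ (Spec (CommRingCat.of k)))] [IsIntegral X]
    (hdim : topologicalKrullDim X = 1)
    (h0 : Module.finrank k (Coh.HH X (Coh.structureModule X) 0) = 1)
    (L : X.Modules) (hL : PicF.IsInvertible L)
    (hdeg : 2 * (Curv2.genus k X : ℤ) - 2 < Curv2.deg k X L 1) :
    Subsingleton (Coh.HH X L 1) := by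
  obtain ⟨e⟩ := nonempty_idealMod_top X
  have hq := subsingleton_quotMod_top k X
  have hs : topologicalKrullDim ((⊤ : X.IdealSheafData).support : Set X) ≤ 0 := by
    rw [Scheme.IdealSheafData.support_top]
    have hE : IsEmpty ((⊥ : TopologicalSpace.Closeds X) : Set X) := ⟨fun x => x.2⟩
    have hE2 : IsEmpty (TopologicalSpace.IrreducibleCloseds ((⊥ : TopologicalSpace.Closeds X) : Set X)) :=
      ⟨fun Z => by obtain ⟨x, -⟩ := Z.isIrreducible.1; exact hE.false x⟩
    have : topologicalKrullDim (((⊥ : TopologicalSpace.Closeds X) : Set X) : Type u) = ⊥ :=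
      Order.krullDim_eq_bot
    rw [this]
    exact bot_le
  have h1 := (S1532.result k X hdim h0 L hL ⊤ hs (by
    rw [Module.finrank_zero_of_subsingleton]; simpa using hdeg)).1
  let e' : CohB1.tensorMod (ClSub.idealMod (⊤ : X.IdealSheafData)) L ≅ L :=
    (DCoh.tensorRightMod L).mapIso e ≪≫ Fga.TensorList.unitTensor L
  exact (Fga.EulerIso.HHequiv k e' 1).symm.toEquiv.subsingleton

/-- `Ω^{⊗n}` is very ample and has vanishing `H^1` for `n ≥ 3`. -/
theorem omega_pow {g : ℕ} (hX : IsCurve (X ↘ (Spec (CommRingCat.of k))) g) (hg : 2 ≤ g) (n : ℕ) (hn : 3 ≤ n) :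
    RelAmple.IsRelVeryAmplePn (X ↘ (Spec (CommRingCat.of k)))
      (CohB1.tensorPow (Omega.sheaf (X ↘ (Spec (CommRingCat.of k)))) n) ∧
    Subsingleton (Coh.HH X (CohB1.tensorPow (Omega.sheaf (X ↘ (Spec (CommRingCat.of k)))) n) 1) := by
  have i1 := hX.proper
  have i2 := hX.smooth
  have i3 := hX.conn
  have i4 := hX.rel
  have i5 : GeometricallyIntegral (X ↘ (Spec (CommRingCat.of k))) := geometricallyIntegral _
  obtain ⟨-, -, -, hdim, hgen, h0, -⟩ := hX.field k (𝟙 _) X (𝟙 X) (IsPullback.of_id_fst)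
  have i6 : ConnectedSpace X := GeometricallyConnected.connectedSpace_of_subsingleton
    (X ↘ (Spec (CommRingCat.of k)))
  have i7 : IsIntegral X := CurveFam.isIntegral_of_smooth k (X ↘ (Spec (CommRingCat.of k)))
  have hΩ := S1612.result k X ⟨i1, i2, i7, hdim⟩ h0
  have hinv : PicF.IsInvertible (Omega.sheaf (X ↘ (Spec (CommRingCat.of k)))) :=
    CurvesB.OmegaInv.isInvertible_omega _ hdim
  have hinv' := Fdesc.LocGen.isInvertible_tensorPow hinv n
  have hdeg := S1530.deg_tensorPow k hdim hinv n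
  rw [hΩ.2, hgen] at hdeg
  have h1 : 2 * (g : ℤ) + 1 ≤ (n : ℤ) * (2 * g - 2) := by
    have hn' : (3 : ℤ) ≤ n := by exact_mod_cast hn
    have hg' : (2 : ℤ) ≤ g := by exact_mod_cast hg
    nlinarith
  constructor
  · obtain ⟨m, i, hi, hp, e⟩ := S1611.result k X hdim h0 _ hinv' (by rw [hgen, hdeg]; exact h1)
    exact isRelVeryAmplePn_of_closedImmersion _ _ i hi hp e
  · refine subsingleton_h1 k X hdim h0 _ hinv' ?_
    rw [hgen, hdeg]
    omega

end Field

end K333.FibreVA
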