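import Groth.Agent.PerfB.ApproxMain
import Groth.Agent.S2155

/-!
# Raising the level of a finite-level model: closed subsets with empty preimage, smoothness
-/

set_option autoImplicit false
universe u
open CategoryTheory CategoryTheory.Limits AlgebraicGeometry

namespace K333.StageClosed

open Groth.Agent.PerfB.ApproxRing Groth.Agent.PerfB.ApproxMdl Groth.Agent.PerfB.ApproxGood
  Groth.Agent.PerfB.ApproxProp

variable {A : Type u} [CommRing A]

/-- An ideal of a finitely generated subring that generates the unit ideal of `A` generates the unit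
ideal of a larger finitely generated subring. -/
theorem exists_map_eq_top {B : Idx A} (J : Ideal B.1) (h : J.map (algebraMap B.1 A) = ⊤) :
    ∃ (C : Idx A) (hC : B ≤ C), J.map (incl hC) = ⊤ := by
  have h1 : (1 : A) ∈ Ideal.span ((algebraMap B.1 A) '' (J : Set B.1)) := by
    change (1 : A) ∈ J.map (algebraMap B.1 A)
    rw [h]; trivial
  obtain ⟨n, c, g, hg⟩ := (Submodule.mem_span_set' (R := A)).1 h1
  have hj : ∀ i, ∃ j : B.1, j ∈ J ∧ algebraMap B.1 A j = (g i : A) := fun i => (g i).2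
  choose j hjJ hj2 using hj
  obtain ⟨C, hC, hs⟩ := exists_idx_of_finite (s := Set.range c) (Set.finite_range c) B
  refine ⟨C, hC, ?_⟩
  rw [Ideal.eq_top_iff_one]
  have h2 : (1 : C.1) = ∑ i, (⟨c i, hs ⟨i, rfl⟩⟩ : C.1) * incl hC (j i) := by
    apply Subtype.ext
    have h3 : ((∑ i, (⟨c i, hs ⟨i, rfl⟩⟩ : C.1) * incl hC (j i) : C.1) : A) =
        ∑ i, c i * (g i : A) := by
      rw [AddSubmonoidClass.coe_finsetSum]
      refine Finset.sum_congr rfl fun i _ => ?_
      rw [← hj2 i]
      rfl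
    rw [h3]
    exact hg.symm
  rw [h2]
  exact Ideal.sum_mem _ fun i _ => Ideal.mul_mem_left _ _ (Ideal.mem_map_of_mem _ (hjJ i))

/-- A closed subset of `Spec B` with empty preimage in `Spec A` has empty preimage at a higher level. -/
theorem exists_stage_closed {B : Idx A} (Z : Set ↥(Spec (CommRingCat.of B.1))) (hZ : IsClosed Z)
    (h : ∀ s : ↥(Spec (CommRingCat.of A)), sa B s ∉ Z) :
    ∃ (C : Idx A) (hC : B ≤ C), ∀ s : ↥(Spec (CommRingCat.of C.1)), si hC s ∉ Z := by
  obtain ⟨J, hJ⟩ : ∃ J : Ideal B.1, Z = PrimeSpectrum.zeroLocus (J : Set B.1) :=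
    (PrimeSpectrum.isClosed_iff_zeroLocus_ideal Z).1 hZ
  have key : ∀ {D : Type u} [CommRing D] (φ : B.1 →+* D),
      (∀ s : ↥(Spec (CommRingCat.of D)), Spec.map (CommRingCat.ofHom φ) s ∉ Z) ↔ J.map φ = ⊤ := by
    intro D _ φ
    rw [← PrimeSpectrum.zeroLocus_empty_iff_eq_top, Set.eq_empty_iff_forall_notMem]
    have key' : ∀ s : PrimeSpectrum D, PrimeSpectrum.comap φ s ∈ PrimeSpectrum.zeroLocus (J : Set B.1) ↔
        s ∈ PrimeSpectrum.zeroLocus (J.map φ : Set D) := by
      intro s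
      rw [PrimeSpectrum.mem_zeroLocus, PrimeSpectrum.mem_zeroLocus, SetLike.coe_subset_coe,
        SetLike.coe_subset_coe, Ideal.map_le_iff_le_comap]
      rfl
    rw [hJ]
    exact forall_congr' fun s => not_congr (key' s)
  obtain ⟨C, hC, h2⟩ := exists_map_eq_top J ((key (algebraMap B.1 A)).1 h)
  exact ⟨C, hC, (key (incl hC)).2 h2⟩

variable {X : Scheme.{u}} {f : X ⟶ Spec (CommRingCat.of A)} {F : X.Modules}

/-- An open subset `W` of `Spec B` containing the image of `Spec A` contains the image of `Spec C`. -/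
theorem exists_stage_open {B : Idx A} (W : (Spec (CommRingCat.of B.1)).Opens)
    (h : ∀ s : ↥(Spec (CommRingCat.of A)), sa B s ∈ W) :
    ∃ (C : Idx A) (hC : B ≤ C), ∀ s : ↥(Spec (CommRingCat.of C.1)), si hC s ∈ W := by
  obtain ⟨C, hC, h2⟩ := exists_stage_closed (A := A) (B := B) ((W : Set ↥(Spec (CommRingCat.of B.1)))ᶜ)
    W.isOpen.isClosed_compl (fun s hs => hs (h s))
  exact ⟨C, hC, fun s => by by_contra hcon; exact h2 s hcon⟩

/-- Smoothness of a proper flat model at a higher level. -/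
theorem exists_up_smooth (m : Mdl f F) (hp : IsProper m.h) (hfl : Flat m.h) (hf : Smooth f) :
    ∃ (C : Idx A) (h : m.B ≤ C), Smooth (m.up C h).h := by
  have := m.lfp
  have hlfp : LocallyOfFinitePresentation f := inferInstance
  -- the image of the non-smooth locus
  let Z : Set ↥(Spec (CommRingCat.of m.B.1)) := m.h '' ((m.h.smoothLocus : Set m.Y)ᶜ)
  have hZ : IsClosed Z := m.h.isClosedMap _ m.h.smoothLocus.isOpen.isClosed_compl
  have hZe : ∀ s : ↥(Spec (CommRingCat.of A)), sa m.B s ∉ Z := by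
    rintro s ⟨y, hy, hys⟩
    obtain ⟨z, hz, -⟩ := Scheme.Pullback.exists_preimage_pullback y s hys
    let x : X := m.pb.isoPullback.inv z
    have hx : m.g x = y := by
      rw [← hz]
      exact congr($(m.pb.isoPullback_inv_fst) z)
    have h1 : f.smoothLocus = m.g ⁻¹ᵁ m.h.smoothLocus := Groth.Agent.S2155.result _ _ _ _ m.pb (Or.inl hfl)
    have h2 : x ∈ f.smoothLocus := by
      rw [Scheme.Hom.smoothLocus_eq_top]; trivial
    rw [h1] at h2
    apply hy
    have h3 : m.g x ∈ m.h.smoothLocus := h2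
    rwa [hx] at h3
  obtain ⟨C, hC, h1⟩ := exists_stage_closed Z hZ hZe
  refine ⟨C, hC, ?_⟩
  have h2 : LocallyOfFinitePresentation (m.up C hC).h := (m.up C hC).lfp
  have h3 : (m.up C hC).h.smoothLocus = m.pup hC ⁻¹ᵁ m.h.smoothLocus :=
    Groth.Agent.S2155.result m.h (si hC) (m.hup hC) (m.pup hC) (IsPullback.of_hasPullback m.h (si hC))
      (Or.inl hfl)
  have h4 : (m.up C hC).h.smoothLocus = ⊤ := by
    rw [h3]
    refine eq_top_iff.2 fun y _ => ?_
    by_contra hcon
    refine h1 (m.hup hC y) ⟨m.pup hC y, hcon, ?_⟩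
    exact congr($(pullback.condition (f := m.h) (g := si hC)) y)
  exact Scheme.Hom.smoothLocus_eq_top_iff.1 h4

theorem smooth_up (m : Mdl f F) {C : Idx A} (h : m.B ≤ C) (hf : Smooth m.h) :
    Smooth (m.up C h).h :=
  inferInstanceAs (Smooth (pullback.snd m.h (si h)))

end K333.StageClosed
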