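import Groth.Agent.Curves.K333.Locus
import Groth.Agent.Curves.K333.StageClosed

/-!
# Noetherian approximation of smooth curves of genus `g`
-/

set_option autoImplicit false
universe u
open CategoryTheory CategoryTheory.Limits AlgebraicGeometry

namespace K333.Approx

open Groth.Agent K333.Fam
open Groth.Agent.PerfB.ApproxRing Groth.Agent.PerfB.ApproxMdl Groth.Agent.PerfB.ApproxGood
  Groth.Agent.PerfB.ApproxProp

variable {A : Type u} [CommRing A] {X : Scheme.{u}} {f : X ⟶ Spec (CommRingCat.of A)} {F : X.Modules}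

/-- A model of a smooth curve of genus `g`, together with a finitely presented module which is flat. -/
theorem exists_mdl {g : ℕ} (hf : IsCurve f g) (hF : CohB1.IsFP F) :
    ∃ m : Mdl f F, IsCurve m.h g ∧ (FlatMod.IsFlatOver f F → FlatMod.IsFlatOver m.h m.G) := by
  have i1 := hf.proper
  have i2 := hf.smooth
  obtain ⟨m, h1, h2, h3⟩ := (PerfB.ApproxMain.good_flat.good'.and
    (good_isProper.good'.and PerfB.ApproxMain.good_flatMor.good')).exists (f := f) (F := F) hF
  have h2' := h2 inferInstance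
  have h3' := h3 inferInstance
  obtain ⟨C, hC, hs⟩ := StageClosed.exists_up_smooth m h2' h3' i2
  let m' := m.up C hC
  have h2'' : IsProper m'.h := isProper_up m hC h2'
  have hs' : Smooth m'.h := hs
  obtain ⟨W, hW⟩ := Locus.exists_locus m'.h g
  obtain ⟨D, hD, hs2⟩ := StageClosed.exists_stage_open (B := m'.B) W
    ((hW X _ m'.g f (sa m'.B) m'.pb).2 hf)
  refine ⟨m'.up D hD, (hW _ _ (m'.pup hD) _ (si hD) (IsPullback.of_hasPullback m'.h (si hD))).1 hs2, ?_⟩
  intro hfl
  exact PerfB.ApproxMain.good_flat.stab m' D hD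
    (PerfB.ApproxMain.good_flat.stab m C hC h1) hfl

/-- A smooth curve of genus `g` over `Spec A` is the base change of one over a finitely generated subring. -/
theorem exists_model {g : ℕ} (hf : IsCurve f g) :
    ∃ (B : Idx A) (X₀ : Scheme.{u}) (f₀ : X₀ ⟶ Spec (CommRingCat.of B.1)) (v : X ⟶ X₀),
      IsPullback v f f₀ (sa B) ∧ IsCurve f₀ g := by
  obtain ⟨m, h1, -⟩ := exists_mdl (F := Coh.structureModule X) hf PerfB.StructFlat.isFP_structure
  exact ⟨m.B, m.Y, m.h, m.g, m.pb, h1⟩

/-- The base change of a smooth curve of genus `g` over an affine scheme from a scheme of finite type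
over `ℤ`. -/
theorem exists_model_affine {X S : Scheme.{u}} [IsAffine S] {f : X ⟶ S} {g : ℕ} (hf : IsCurve f g) :
    ∃ (S₀ X₀ : Scheme.{u}) (f₀ : X₀ ⟶ S₀) (u : S ⟶ S₀) (v : X ⟶ X₀),
      IsAffine S₀ ∧ Algebra.FiniteType ℤ Γ(S₀, ⊤) ∧ Function.Injective (u.appTop).hom ∧
      IsPullback v f f₀ u ∧ IsCurve f₀ g := by
  let A := Γ(S, ⊤)
  let f' : X ⟶ Spec (CommRingCat.of A) := f ≫ S.isoSpec.hom
  have hpb : IsPullback (𝟙 X) f' f S.isoSpec.inv := IsPullback.of_horiz_isIso ⟨by simp [f']⟩
  have hf' : IsCurve f' g := hf.baseChange hpb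
  obtain ⟨B, X₀, f₀, v, H, h0⟩ := exists_model hf'
  have hpb' : IsPullback (𝟙 X) f f' S.isoSpec.hom := IsPullback.of_horiz_isIso ⟨by simp [f']⟩
  refine ⟨Spec (CommRingCat.of B.1), X₀, f₀, S.isoSpec.hom ≫ sa B, 𝟙 X ≫ v, inferInstance, ?_, ?_,
    hpb'.paste_horiz H, h0⟩
  · have h1 : Algebra.FiniteType ℤ B.1 := (Subalgebra.fg_iff_finiteType _).1 B.2
    let e : B.1 ≃+* Γ(Spec (CommRingCat.of B.1), ⊤) :=
      (Scheme.ΓSpecIso (CommRingCat.of B.1)).symm.commRingCatIsoToRingEquiv
    exact Algebra.FiniteType.equiv h1 (e.toIntAlgEquiv)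
  · have h2 : Function.Injective ((sa B).appTop).hom := by
      have h3 : Function.Injective (algebraMap B.1 A) := Subtype.val_injective
      have h4 : (sa B).appTop = (Scheme.ΓSpecIso (CommRingCat.of B.1)).hom ≫
          CommRingCat.ofHom (algebraMap B.1 A) ≫ (Scheme.ΓSpecIso (CommRingCat.of A)).inv := by
        rw [← Category.assoc, Iso.eq_comp_inv]
        exact Scheme.ΓSpecIso_naturality _
      rw [h4]
      intro x y hxy
      have h5 := (ConcreteCategory.bijective_of_isIso (Scheme.ΓSpecIso (CommRingCat.of A)).inv).1 hxy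
      exact (ConcreteCategory.bijective_of_isIso (Scheme.ΓSpecIso (CommRingCat.of B.1)).hom).1 (h3 h5)
    have h7 : IsIso (S.isoSpec.hom.appTop) := inferInstanceAs (IsIso (S.isoSpec.hom.app ⊤))
    have h6 : Function.Injective (S.isoSpec.hom.appTop).hom :=
      (ConcreteCategory.bijective_of_isIso (S.isoSpec.hom.appTop)).1
    rw [Scheme.Hom.comp_appTop]
    exact h6.comp h2

end K333.Approx
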