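import Groth.Agent.Pi1.H536.CurveFam
import Groth.Prelude.Def_PerfAux

/-!
# Smooth curves of genus `g` over a scheme

`K333.Fam.IsCurve f g`: `f` is proper, smooth of relative dimension one, with geometrically connected
fibres of genus `g`.  `of_fibres` and `fibres` relate this to the conditions on the fibres `f.fiber s`,
`baseChange` is the base change, `field` describes the base change to a field valued point.
-/

set_option autoImplicit false
universe u
open CategoryTheory CategoryTheory.Limits AlgebraicGeometry

namespace K333.Fam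

open Groth.Agent Groth.Agent.Pi1.H536

/-- `f : X ⟶ S` is a smooth curve of genus `g`. -/
structure IsCurve {X S : Scheme.{u}} (f : X ⟶ S) (g : ℕ) : Prop where
  proper : IsProper f
  rel : SmoothOfRelativeDimension 1 f
  conn : GeometricallyConnected f
  betti : ∀ s : S, PerfAux.betti f (Coh.structureModule X) s 1 = g

theorem IsCurve.smooth {X S : Scheme.{u}} {f : X ⟶ S} {g : ℕ} (h : IsCurve f g) : Smooth f :=
  have := h.rel
  SmoothOfRelativeDimension.smooth 1 f

section Dim

variable {X S : Scheme.{u}} (f : X ⟶ S)

theorem isPullback_fiber (s : S) :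
    IsPullback (f.fiberι s) (f.fiberToSpecResidueField s) f (S.fromSpecResidueField s) :=
  IsPullback.of_hasPullback _ _

/-- The relative dimension of a smooth morphism is `n` when its fibres are connected of dimension `n`. -/
theorem relDim_of_fibres [Smooth f] [GeometricallyConnected f] (n : ℕ)
    (hdim : ∀ s : S, topologicalKrullDim ↥(f.fiber s) = n) : SmoothOfRelativeDimension n f := by
  let ι := {V : X.Opens // SmoothOfRelativeDimension n (V.ι ≫ f)}
  have htop : iSup (fun V : ι => V.1) = ⊤ := by
    rw [eq_top_iff]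
    intro x _
    obtain ⟨m, V, hxV, hm⟩ := CurveFam.exists_relDim f x
    let s : S := f x
    have h₀ := isPullback_fiber f s
    have hs0 : Smooth (f.fiberToSpecResidueField s) := MorphismProperty.of_isPullback h₀ inferInstance
    have hc0 : GeometricallyConnected (f.fiberToSpecResidueField s) :=
      MorphismProperty.of_isPullback h₀ inferInstance
    have hc1 : ConnectedSpace ↥(f.fiber s) :=
      GeometricallyConnected.connectedSpace_of_subsingleton (f.fiberToSpecResidueField s)
    have hn0 := CurveFam.smoothOfRelativeDimension_of_dim (S.residueField s)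
      (f.fiberToSpecResidueField s) n (hdim s)
    obtain ⟨z, hz⟩ : ∃ z : f.fiber s, f.fiberι s z = x := by
      have h1 : x ∈ Set.range (f.fiberι s) := by
        rw [Scheme.Hom.range_fiberι]
        exact rfl
      exact h1
    have hpb : IsPullback ((f.fiberι s) ∣_ V) (((f.fiberι s) ⁻¹ᵁ V).ι ≫ f.fiberToSpecResidueField s)
        (V.ι ≫ f) (S.fromSpecResidueField s) :=
      (isPullback_morphismRestrict (f.fiberι s) V).paste_vert h₀
    have hbc := smoothOfRelativeDimension_isStableUnderBaseChange (n := m)
    have h1 : SmoothOfRelativeDimension m (((f.fiberι s) ⁻¹ᵁ V).ι ≫ f.fiberToSpecResidueField s) :=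
      MorphismProperty.of_isPullback (P := @SmoothOfRelativeDimension m) hpb hm
    have h2 : m = n := CurveFam.relDim_unique (S.residueField s) (f.fiberToSpecResidueField s) n m
      ((f.fiberι s) ⁻¹ᵁ V) ⟨z, by simpa [hz] using hxV⟩ h1
    subst h2
    exact TopologicalSpace.Opens.mem_iSup.2 ⟨⟨V, hm⟩, hxV⟩
  have hZ : IsZariskiLocalAtSource (@SmoothOfRelativeDimension n) :=
    HasRingHomProperty.instIsZariskiLocalAtSource
  exact IsZariskiLocalAtSource.of_iSup_eq_top (P := @SmoothOfRelativeDimension n) (fun V : ι => V.1) htop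
    fun V => V.2

end Dim

/-- the curve conditions at a field-valued point -/
theorem IsCurve.field {X S : Scheme.{u}} {f : X ⟶ S} {g : ℕ} (hf : IsCurve f g) (K : Type u) [Field K]
    (t : Spec (CommRingCat.of K) ⟶ S) (X' : Scheme.{u}) [X'.Over (Spec (CommRingCat.of K))] (j : X' ⟶ X)
    (h : IsPullback j (X' ↘ Spec (CommRingCat.of K)) f t) :
    IsProper (X' ↘ Spec (CommRingCat.of K)) ∧ SmoothOfRelativeDimension 1 (X' ↘ Spec (CommRingCat.of K)) ∧
      GeometricallyConnected (X' ↘ Spec (CommRingCat.of K)) ∧ topologicalKrullDim X' = 1 ∧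
      Curv2.genus K X' = g ∧ Module.finrank K (Coh.HH X' (Coh.structureModule X') 0) = 1 ∧
      ∀ q : ℕ, 2 ≤ q → Subsingleton (Coh.HH X' (Coh.structureModule X') q) := by
  have h1 := hf.proper
  have h2 := hf.rel
  have h3 := hf.conn
  have h4 := hf.smooth
  have p1 : IsProper (X' ↘ Spec (CommRingCat.of K)) := MorphismProperty.of_isPullback h inferInstance
  have hbc := smoothOfRelativeDimension_isStableUnderBaseChange (n := 1)
  have p2 : SmoothOfRelativeDimension 1 (X' ↘ Spec (CommRingCat.of K)) :=
    MorphismProperty.of_isPullback (P := @SmoothOfRelativeDimension 1) h h2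
  have p2' : Smooth (X' ↘ Spec (CommRingCat.of K)) := MorphismProperty.of_isPullback h h4
  have p3 : GeometricallyConnected (X' ↘ Spec (CommRingCat.of K)) :=
    MorphismProperty.of_isPullback h inferInstance
  have p4 : ConnectedSpace X' :=
    GeometricallyConnected.connectedSpace_of_subsingleton (X' ↘ Spec (CommRingCat.of K))
  have p5 : topologicalKrullDim X' = 1 := CurveFam.topologicalKrullDim_eq K (X' ↘ Spec (CommRingCat.of K)) 1
  have p6 := CurveFam.curve_cohomology K X' p5
  refine ⟨p1, p2, p3, p5, ?_, p6⟩
  rw [Curv2.genus, GenusFam.finrank_eq_betti f K t (IsLocalRing.closedPoint K) j h 1]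
  exact hf.betti _

theorem IsCurve.baseChange {X S X' S' : Scheme.{u}} {f : X ⟶ S} {g : ℕ} (hf : IsCurve f g)
    {v : X' ⟶ X} {f' : X' ⟶ S'} {w : S' ⟶ S} (h : IsPullback v f' f w) : IsCurve f' g := by
  have h1 := hf.proper
  have h2 := hf.rel
  have h3 := hf.conn
  have p1 : IsProper f' := MorphismProperty.of_isPullback h inferInstance
  have hbc := smoothOfRelativeDimension_isStableUnderBaseChange (n := 1)
  refine ⟨p1, MorphismProperty.of_isPullback (P := @SmoothOfRelativeDimension 1) h h2,
    MorphismProperty.of_isPullback h inferInstance, fun s => ?_⟩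
  let _ : (f'.fiber s).Over (Spec (CommRingCat.of (S'.residueField s))) :=
    ⟨f'.fiberToSpecResidueField s⟩
  have h5 := isPullback_fiber f' s
  have h6 := hf.field (S'.residueField s) (S'.fromSpecResidueField s ≫ w) (f'.fiber s)
    (f'.fiberι s ≫ v) (h5.paste_horiz h)
  have h7 := GenusFam.finrank_eq_betti f' (S'.residueField s) (S'.fromSpecResidueField s)
    (IsLocalRing.closedPoint _) (f'.fiberι s) h5 1
  rw [show (S'.fromSpecResidueField s) (IsLocalRing.closedPoint (S'.residueField s)) = s from
    S'.fromSpecResidueField_apply s _] at h7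
  rw [← h7]
  exact h6.2.2.2.2.1

/-- the conditions on the fibres -/
theorem IsCurve.fibres {X S : Scheme.{u}} {f : X ⟶ S} {g : ℕ} (hf : IsCurve f g) :
    (∀ s : S, topologicalKrullDim ↥(f.fiber s) = 1) ∧
    ∀ s : S, letI : (f.fiber s).Over (Spec (S.residueField s)) := ⟨f.fiberToSpecResidueField s⟩
      Curv2.genus (S.residueField s) (f.fiber s) = g := by
  refine ⟨fun s => ?_, fun s => ?_⟩
  · let _ : (f.fiber s).Over (Spec (CommRingCat.of (S.residueField s))) :=
      ⟨f.fiberToSpecResidueField s⟩
    exact (hf.field (S.residueField s) (S.fromSpecResidueField s) (f.fiber s) (f.fiberι s)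
      (isPullback_fiber f s)).2.2.2.1
  · let _ : (f.fiber s).Over (Spec (CommRingCat.of (S.residueField s))) :=
      ⟨f.fiberToSpecResidueField s⟩
    exact (hf.field (S.residueField s) (S.fromSpecResidueField s) (f.fiber s) (f.fiberι s)
      (isPullback_fiber f s)).2.2.2.2.1

theorem isCurve_of_fibres {X S : Scheme.{u}} (f : X ⟶ S)
    [IsProper f] [Smooth f] [GeometricallyConnected f]
    (hdim : ∀ s : S, topologicalKrullDim ↥(f.fiber s) = 1) (g : ℕ)
    (hgen : ∀ s : S, letI : (f.fiber s).Over (Spec (S.residueField s)) := ⟨f.fiberToSpecResidueField s⟩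
      Curv2.genus (S.residueField s) (f.fiber s) = g) : IsCurve f g := by
  refine ⟨inferInstance, relDim_of_fibres f 1 (by exact_mod_cast hdim), inferInstance, fun s => ?_⟩
  let _ : (f.fiber s).Over (Spec (CommRingCat.of (S.residueField s))) :=
    ⟨f.fiberToSpecResidueField s⟩
  have h7 := GenusFam.finrank_eq_betti f (S.residueField s) (S.fromSpecResidueField s)
    (IsLocalRing.closedPoint _) (f.fiberι s) (isPullback_fiber f s) 1
  rw [show (S.fromSpecResidueField s) (IsLocalRing.closedPoint (S.residueField s)) = s from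
    S.fromSpecResidueField_apply s _] at h7
  rw [← h7]
  exact hgen s

end K333.Fam
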