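import Groth.Agent.Curves.K333.HOne
import Groth.Agent.Curves.K333.Fam
import Groth.Agent.CurvesB.NodalAsm
import Groth.Agent.Ega3B.RpushAff

/-!
# Cohomology of the structure sheaf of a smooth curve over an affine scheme, and over any scheme
-/

set_option autoImplicit false
universe u

open CategoryTheory CategoryTheory.Limits AlgebraicGeometry TensorProduct

namespace K333.Families

open Groth.Agent K333.HOne K333.Fam

section Restrict

variable {X S : Scheme.{u}} (f : X ⟶ S) {V : S.Opens} (hV : IsAffineOpen V)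

/-- The restriction of `f` over an affine open, as a base change. -/
theorem isPullback_strMap :
    IsPullback (f ⁻¹ᵁ V).ι (Ega3B.PackageAsm.strMap f hV) f hV.fromSpec := by
  have h1 : IsPullback (f ⁻¹ᵁ V).ι (f ∣_ V) f V.ι := (isPullback_morphismRestrict f V).flip
  refine IsPullback.of_iso h1 (Iso.refl _) (Iso.refl _) hV.isoSpec (Iso.refl _) ?_ ?_ ?_ ?_
  · simp
  · simp [Ega3B.PackageAsm.strMap]
  · simp
  · simp

end Restrict

section Affine

variable {A : Type u} [CommRing A] {X : Scheme.{u}} [X.Over (Spec (CommRingCat.of A))] {g : ℕ}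

theorem fibHyp (hf : IsCurve (X ↘ Spec (CommRingCat.of A)) g) : CurvesB.NodalHOne.FibHyp A X := by
  intro m hm Y _ j H
  let _ := Ideal.Quotient.field m
  exact (hf.field (A ⧸ m) _ Y j H).2.2.2.2.2

theorem fibVan (hf : IsCurve (X ↘ Spec (CommRingCat.of A)) g) :
    TwoTerm.FibVan A X (Coh.structureModule X) := by
  intro m hm Y _ j H q hq
  have h1 := (fibHyp hf m Y j H).2 q hq
  exact (CurvesA.HHMap.equivOver (A ⧸ m) (CurvesA.HHMap.pullbackUnit j) q).toEquiv.subsingleton

theorem exists_comp (hf : IsCurve (X ↘ Spec (CommRingCat.of A)) g) :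
    ∃ (K₀ K₁ : Type u) (_ : AddCommGroup K₀) (_ : Module A K₀) (_ : AddCommGroup K₁) (_ : Module A K₁)
      (d : K₀ →ₗ[A] K₁), Module.Finite A K₀ ∧ Module.Projective A K₀ ∧ Module.Finite A K₁ ∧
      Module.Projective A K₁ ∧ Comp A X (Coh.structureModule X) d := by
  have := hf.proper
  have := hf.smooth
  exact TwoTerm.exists_twoTerm A X (Coh.structureModule X) PerfB.StructFlat.isFP_structure
    (PerfB.StructFlat.isFlatOver_structure _) (fibVan hf)

/-- `H^1(X, O)` is projective of rank `g`. -/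
theorem hh_one (hf : IsCurve (X ↘ Spec (CommRingCat.of A)) g) :
    Module.Finite A (Coh.HH X (Coh.structureModule X) 1) ∧
    Module.Projective A (Coh.HH X (Coh.structureModule X) 1) ∧
    (∀ p : PrimeSpectrum A, Module.rankAtStalk (Coh.HH X (Coh.structureModule X) 1) p = g) ∧
    ∀ q : ℕ, 2 ≤ q → Subsingleton (Coh.HH X (Coh.structureModule X) q) := by
  have := hf.proper
  have := hf.smooth
  obtain ⟨⟨h1, h2⟩, h3⟩ := CurvesB.NodalHOne.of_fibHyp A X (fibHyp hf)
  have h2' : Module.Flat A (Coh.HH X (Coh.structureModule X) 1) := @Module.Flat.of_projective _ _ _ _ _ h2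
  refine ⟨h1, h2, fun p => ?_, h3⟩
  obtain ⟨K₀, K₁, _, _, _, _, d, i1, i2, i3, i4, hd⟩ := exists_comp hf
  let Y : Scheme.{u} := pullback (X ↘ Spec (CommRingCat.of A))
      (Spec.map (CommRingCat.ofHom (algebraMap A p.asIdeal.ResidueField)))
  let iY : Y.Over (Spec (CommRingCat.of p.asIdeal.ResidueField)) := ⟨pullback.snd _ _⟩
  have H : IsPullback (pullback.fst _ _) (Y ↘ Spec (CommRingCat.of p.asIdeal.ResidueField))
      (X ↘ Spec (CommRingCat.of A))
      (Spec.map (CommRingCat.ofHom (algebraMap A p.asIdeal.ResidueField))) :=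
    IsPullback.of_hasPullback _ _
  rw [hd.rankAtStalk p Y _ H (Coh.structureModule Y) ⟨CurvesA.HHMap.pullbackUnit _⟩]
  exact (hf.field _ _ Y _ H).2.2.2.2.1

end Affine

/-- `R¹f_* O_X` is locally free of rank `g`. -/
theorem finLocFreeOfRank {X S : Scheme.{u}} (f : X ⟶ S) {g : ℕ} (hf : IsCurve f g)
    [HasInjectiveResolutions X.Modules] :
    FlatMod.IsFinLocFreeOfRank g ((Coh.Rpush f 1).obj (Coh.structureModule X)) := by
  have := hf.proper
  have hq0 : Coh.IsQCoh (Coh.structureModule X) := (CurvesB.UnitCoh.isCoh_structureModule X).1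
  have hQ : Coh.IsQCoh ((Coh.Rpush f 1).obj (Coh.structureModule X)) :=
    S0030.result f (Coh.structureModule X) 1
  intro x
  obtain ⟨V, hV, hxV, -⟩ := exists_isAffineOpen_mem_and_subset (x := x) (U := ⊤) trivial
  let iO : (f ⁻¹ᵁ V).toScheme.Over (Spec (CommRingCat.of Γ(S, V))) := ⟨Ega3B.PackageAsm.strMap f hV⟩
  obtain ⟨e⟩ := CurvesB.NodalAsm.exists_equiv f hV 1
    (Ega3B.RpushAff.exists_equiv_toGlobal f (Coh.structureModule X)
      (CurvesB.UnitCoh.isCoh_structureModule X).1 hV 1)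
  have hc : IsCurve ((f ⁻¹ᵁ V).toScheme ↘ Spec (CommRingCat.of Γ(S, V))) g :=
    hf.baseChange (isPullback_strMap f hV)
  obtain ⟨h1, h2, h3, -⟩ := hh_one hc
  have i1 := Module.Finite.equiv e.symm
  have i2 := Module.Projective.of_equiv e.symm
  have : Module.FinitePresentation Γ(S, V) Γ((Coh.Rpush f 1).obj (Coh.structureModule X), V) :=
    Module.finitePresentation_of_projective _ _
  obtain ⟨U, hxU, -, e'⟩ := Ega3B.LocFree.exists_restrict_iso_freeMod
    ((Coh.Rpush f 1).obj (Coh.structureModule X)) hV ⟨x, hxV⟩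
  refine ⟨U, hxU, ?_⟩
  rw [Module.rankAtStalk_eq_of_equiv e, h3] at e'
  exact e'

end K333.Families
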