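import Groth.Agent.Curves.K333.OmegaFam
import Groth.Agent.Curves.K333.Families
import Groth.Agent.Ega3B.ChiFib

/-!
# Cohomology of flat modules on curves of genus `g`

`exists_comp`: the two-term complex computing the cohomology of a flat finitely presented module;
`isZero_Rpush`: `R^q f_* F = 0` for `q ≥ 2`; `isProj_of_stage`, ...
-/

set_option autoImplicit false
universe u
open CategoryTheory CategoryTheory.Limits AlgebraicGeometry TensorProduct

namespace K333.CurveCoh

open Groth.Agent K333.Fam K333.HOne K333.Families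

section Affine

variable {A : Type u} [CommRing A] {X : Scheme.{u}} [X.Over (Spec (CommRingCat.of A))] {g : ℕ}

theorem fibVan (hf : IsCurve (X ↘ Spec (CommRingCat.of A)) g) (F : X.Modules) : TwoTerm.FibVan A X F := by
  intro m hm Y _ j H q hq
  let _ := Ideal.Quotient.field m
  exact OmegaFam.subsingleton_two (A ⧸ m) Y (hf.baseChange H) _ q hq

theorem exists_comp (hf : IsCurve (X ↘ Spec (CommRingCat.of A)) g) (F : X.Modules) (hF : CohB1.IsFP F)
    (hfl : FlatMod.IsFlatOver (X ↘ Spec (CommRingCat.of A)) F) :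
    ∃ (K₀ K₁ : Type u) (_ : AddCommGroup K₀) (_ : Module A K₀) (_ : AddCommGroup K₁) (_ : Module A K₁)
      (d : K₀ →ₗ[A] K₁), Module.Finite A K₀ ∧ Module.Projective A K₀ ∧ Module.Finite A K₁ ∧
      Module.Projective A K₁ ∧ Comp A X F d := by
  have := hf.proper
  have := hf.smooth
  exact TwoTerm.exists_twoTerm A X F hF hfl (fibVan hf F)

theorem exists_comp_inv (hf : IsCurve (X ↘ Spec (CommRingCat.of A)) g) (F : X.Modules)
    (hF : PicF.IsInvertible F) :
    ∃ (K₀ K₁ : Type u) (_ : AddCommGroup K₀) (_ : Module A K₀) (_ : AddCommGroup K₁) (_ : Module A K₁)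
      (d : K₀ →ₗ[A] K₁), Module.Finite A K₀ ∧ Module.Projective A K₀ ∧ Module.Finite A K₁ ∧
      Module.Projective A K₁ ∧ Comp A X F d := by
  have := hf.smooth
  exact exists_comp hf F (Ega3B.ChiFib.isFP_of_isInvertible hF)
    (Ega3B.ChiFib.isFlatOver_of_isInvertible (X ↘ Spec (CommRingCat.of A)) hF)

end Affine

/-- `R^q f_* F = 0` for `q ≥ 2`. -/
theorem isZero_Rpush {X S : Scheme.{u}} {f : X ⟶ S} {g : ℕ} (hf : IsCurve f g)
    [HasInjectiveResolutions X.Modules] (F : X.Modules) (hF : CohB1.IsFP F)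
    (hfl : FlatMod.IsFlatOver f F) (q : ℕ) (hq : 2 ≤ q) : IsZero ((Coh.Rpush f q).obj F) := by
  have i0 := hf.proper
  have i00 := hf.smooth
  have hqc : Coh.IsQCoh F := Models2.FPCoh.isQCoh_of_isFP hF
  refine CurvesB.NodalRpush.isZero_of_sections _ (CohqA.RelCoh.isQCoh_Rpush f F hqc q) fun V hV => ?_
  let iO : (f ⁻¹ᵁ V).toScheme.Over (Spec (CommRingCat.of Γ(S, V))) := ⟨Ega3B.PackageAsm.strMap f hV⟩
  have hFV : CohB1.IsFP (F.restrict (f ⁻¹ᵁ V).ι) := PerfC.FPSections.isFP_restrict _ hF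
  have hflV : FlatMod.IsFlatOver ((f ⁻¹ᵁ V).toScheme ↘ Spec (CommRingCat.of Γ(S, V)))
      (F.restrict (f ⁻¹ᵁ V).ι) := by
    refine Ega3B.FlatRestrict.isFlatOver_restrict f _ (f ⁻¹ᵁ V).ι hV.fromSpec ?_ F hfl
    exact (isPullback_strMap f hV).w
  have hc : IsCurve ((f ⁻¹ᵁ V).toScheme ↘ Spec (CommRingCat.of Γ(S, V))) g :=
    hf.baseChange (isPullback_strMap f hV)
  obtain ⟨K₀, K₁, _, _, _, _, d, -, -, -, -, hd⟩ := exists_comp hc _ hFV hflV
  have h2 := hd.self.2.2 q hq
  obtain ⟨e, -⟩ := Ega3B.RpushAff.exists_equiv_toGlobal f F hqc hV q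
  exact e.toEquiv.subsingleton

/-- `h^1(Ω) = 1`. -/
theorem finrank_hh_one_omega (k : Type u) [Field k] (X : Scheme.{u}) [X.Over (Spec (CommRingCat.of k))]
    {g : ℕ} (hX : IsCurve (X ↘ (Spec (CommRingCat.of k))) g) :
    Module.finrank k (Coh.HH X (Omega.sheaf (X ↘ (Spec (CommRingCat.of k)))) 1) = 1 ∧
    Curv2.deg k X (Omega.sheaf (X ↘ (Spec (CommRingCat.of k)))) 1 = 2 * (g : ℤ) - 2 := by
  have i1 := hX.proper
  have i2 := hX.smooth
  have i3 := hX.conn
  obtain ⟨-, -, -, hdim, hgen, h0, h2⟩ := hX.field k (𝟙 _) X (𝟙 X) (IsPullback.of_id_fst)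
  have i6 : ConnectedSpace X := GeometricallyConnected.connectedSpace_of_subsingleton
    (X ↘ (Spec (CommRingCat.of k)))
  have i7 : IsIntegral X := Pi1.H536.CurveFam.isIntegral_of_smooth k (X ↘ (Spec (CommRingCat.of k)))
  obtain ⟨h3, h4⟩ := S1612.result k X ⟨i1, i2, i7, hdim⟩ h0
  have h5 : ∀ M : X.Modules, Curv2.euler k X M = (Module.finrank k (Coh.HH X M 0) : ℤ) -
      Module.finrank k (Coh.HH X M 1) := by
    intro M
    have h6 : ∀ q : ℕ, 2 ≤ q → Module.finrank k (Coh.HH X M q) = 0 := fun q hq => by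
      have := OmegaFam.subsingleton_two k X hX M q hq
      exact Module.finrank_zero_of_subsingleton
    unfold Curv2.euler
    rw [finsum_eq_sum_of_support_subset (s := Finset.range 2)]
    · simp [Finset.sum_range_succ]
      ring
    · intro q hq
      simp only [Function.mem_support] at hq
      simp only [Finset.coe_range, Set.mem_Iio]
      by_contra hcon
      exact hq (by rw [h6 q (by omega)]; simp)
  have h7 : Curv2.deg k X (Omega.sheaf (X ↘ (Spec (CommRingCat.of k)))) 1 = 2 * (g : ℤ) - 2 := by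
    rw [h4, hgen]
  refine ⟨?_, h7⟩
  unfold Curv2.deg at h7
  rw [h5, h5, h3, h0] at h7
  have h8 : Module.finrank k (Coh.HH X (Coh.structureModule X) 1) = g := hgen
  rw [h8, hgen] at h7
  push_cast at h7
  omega

end K333.CurveCoh
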