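import Mathlib.RingTheory.LocalProperties.Projective
import Mathlib.RingTheory.Nakayama
import Mathlib.Algebra.Module.LocalizedModule.Basic
import Mathlib.RingTheory.Localization.AtPrime.Basic
import Mathlib.LinearAlgebra.TensorProduct.Tower
import Mathlib.LinearAlgebra.TensorProduct.Quotient
import Mathlib.LinearAlgebra.Dimension.FreeAndStrongRankCondition
import Mathlib.LinearAlgebra.Basis.VectorSpace
import Mathlib.RingTheory.Ideal.Quotient.Operations

/-!
# Finitely presented locally cyclic modules with zero annihilator are projective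
-/

set_option autoImplicit false

open TensorProduct

namespace K333.CycProj

variable {A N : Type*} [CommRing A] [AddCommGroup N] [Module A N]

/-- Nakayama: local generation by one element. -/
theorem exists_smul_mem [Module.Finite A N] (m : Ideal A) (x : N)
    (hx : ∀ y : N, ∃ a : A, y - a • x ∈ m • (⊤ : Submodule A N)) :
    ∃ r : A, r - 1 ∈ m ∧ ∀ y : N, ∃ a : A, r • y = a • x := by
  let Q := N ⧸ (A ∙ x)
  have h1 : (⊤ : Submodule A Q) ≤ m • (⊤ : Submodule A Q) := by
    intro q _
    obtain ⟨y, rfl⟩ := Submodule.mkQ_surjective _ q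
    obtain ⟨a, ha⟩ := hx y
    have h2 : (A ∙ x).mkQ y = (A ∙ x).mkQ (y - a • x) := by
      rw [map_sub, eq_comm, sub_eq_self]
      exact (Submodule.Quotient.mk_eq_zero _).2 (Submodule.smul_mem _ a (Submodule.mem_span_singleton_self x))
    rw [h2]
    have h3 : (A ∙ x).mkQ (y - a • x) ∈ (m • (⊤ : Submodule A N)).map (A ∙ x).mkQ :=
      Submodule.mem_map_of_mem ha
    rw [Submodule.map_smul''] at h3
    exact Submodule.smul_mono le_rfl le_top h3
  obtain ⟨r, hr, h4⟩ := Submodule.exists_sub_one_mem_and_smul_eq_zero_of_fg_of_le_smul m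
    (⊤ : Submodule A Q) Module.Finite.fg_top h1
  refine ⟨r, hr, fun y => ?_⟩
  have h5 := h4 ((A ∙ x).mkQ y) trivial
  rw [← map_smul] at h5
  obtain ⟨a, ha⟩ := Submodule.mem_span_singleton.1 ((Submodule.Quotient.mk_eq_zero _).1 h5)
  exact ⟨a, ha.symm⟩

/-- A finitely presented module with trivial annihilator which is locally generated by one element is
projective. -/
theorem projective [Module.FinitePresentation A N]
    (hann : ∀ a : A, (∀ x : N, a • x = 0) → a = 0)
    (hx : ∀ m : Ideal A, m.IsMaximal → ∃ x : N, ∀ y : N, ∃ a : A, y - a • x ∈ m • (⊤ : Submodule A N)) :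
    Module.Projective A N := by
  refine Module.projective_of_localization_maximal fun m hm => ?_
  obtain ⟨x, hx⟩ := hx m hm
  obtain ⟨r, hr, h⟩ := exists_smul_mem m x hx
  have hrm : r ∉ m := fun h1 => hm.ne_top (by
    rw [Ideal.eq_top_iff_one]
    have h2 := m.sub_mem h1 hr
    simpa using h2)
  let φ : A →ₗ[A] N := LinearMap.toSpanSingleton A N x
  let ψ : LocalizedModule m.primeCompl A →ₗ[Localization m.primeCompl] LocalizedModule m.primeCompl N :=
    LocalizedModule.map m.primeCompl φ
  have hψ : Function.Bijective ψ := by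
    constructor
    · rw [← LinearMap.ker_eq_bot, LinearMap.ker_eq_bot']
      intro z hz
      induction z using LocalizedModule.induction_on with
      | h a s =>
        rw [LocalizedModule.map_mk, ← LocalizedModule.zero_mk (1 : m.primeCompl),
          LocalizedModule.mk_eq] at hz
        obtain ⟨t, ht⟩ := hz
        rw [one_smul, smul_zero, smul_zero] at ht
        have h6 : (t : A) * r * a = 0 := by
          apply hann
          intro y
          obtain ⟨b, hb⟩ := h y
          have h7 : ((t : A) * r * a) • y = b • ((t : A) • (a • x)) := by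
            rw [mul_right_comm, mul_smul _ r y, hb, smul_smul, smul_smul, smul_smul]
            congr 1
            ring
          rw [h7]
          have h8 : (t : A) • (a • x) = 0 := ht
          rw [h8, smul_zero]
        rw [← LocalizedModule.zero_mk (1 : m.primeCompl), LocalizedModule.mk_eq]
        refine ⟨t * ⟨r, hrm⟩, ?_⟩
        rw [one_smul, smul_zero, smul_zero]
        exact h6
    · intro z
      induction z using LocalizedModule.induction_on with
      | h y s =>
        obtain ⟨a, ha⟩ := h y
        refine ⟨LocalizedModule.mk a (s * ⟨r, hrm⟩), ?_⟩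
        rw [LocalizedModule.map_mk, LocalizedModule.mk_eq]
        refine ⟨1, ?_⟩
        rw [one_smul, one_smul, mul_smul]
        have h6 : (⟨r, hrm⟩ : m.primeCompl) • y = φ a := ha
        rw [h6]
  let e := LinearEquiv.ofBijective ψ hψ
  have h3 : Module.Projective (Localization m.primeCompl) (LocalizedModule m.primeCompl A) :=
    inferInstance
  exact Module.Projective.of_equiv e

/-- A one-dimensional fibre is generated by the image of an element. -/
theorem exists_gen_mod {A : Type*} [CommRing A] {N : Type*} [AddCommGroup N] [Module A N] (m : Ideal A)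
    [hm : m.IsMaximal]
    (h1 : letI := Ideal.Quotient.field m
      Module.finrank (A ⧸ m) ((A ⧸ m) ⊗[A] N) = 1) :
    ∃ x : N, ∀ y : N, ∃ a : A, y - a • x ∈ m • (⊤ : Submodule A N) := by
  let _ := Ideal.Quotient.field m
  obtain ⟨v, -, hv⟩ := finrank_eq_one_iff'.1 h1
  obtain ⟨x, hx⟩ := TensorProduct.mk_surjective A N (A ⧸ m) Ideal.Quotient.mk_surjective v
  have hx' : v = (1 : A ⧸ m) ⊗ₜ[A] x := hx.symm
  refine ⟨x, fun y => ?_⟩
  obtain ⟨c, hc⟩ := hv ((1 : A ⧸ m) ⊗ₜ y)
  obtain ⟨a, rfl⟩ := Ideal.Quotient.mk_surjective c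
  refine ⟨a, ?_⟩
  have h2 : (1 : A ⧸ m) ⊗ₜ[A] (y - a • x) = 0 := by
    rw [TensorProduct.tmul_sub, ← hc, hx', TensorProduct.smul_tmul', TensorProduct.tmul_smul,
      TensorProduct.smul_tmul', sub_eq_zero]
    congr 1
  have h3 := congrArg (TensorProduct.quotTensorEquivQuotSMul _ m) h2
  rw [TensorProduct.quotTensorEquivQuotSMul_mk_one_tmul, map_zero] at h3
  exact (Submodule.Quotient.mk_eq_zero _).1 h3

end K333.CycProj
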