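import Groth.Agent.Curves.K333.FibreVA
import Groth.Agent.Curves.K333.Approx
import Groth.Agent.Vancyc.H878.RelOmega
import Groth.Agent.Ega3B.PullTensor
import Groth.Agent.Dual.H339.OmegaRank
import Groth.Agent.Ega2.QCohLocal
import Groth.Prelude.Def_RelProj2

/-!
# Powers of `Ω` for a smooth curve over a scheme
-/

set_option autoImplicit false
universe u
open CategoryTheory CategoryTheory.Limits AlgebraicGeometry

namespace K333.OmegaFam

open Groth.Agent K333.Fam

theorem isInvertible_omega {X S : Scheme.{u}} (f : X ⟶ S) [QuasiSeparated f]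
    [SmoothOfRelativeDimension 1 f] : PicF.IsInvertible (Omega.sheaf f) :=
  Ega2.QCohLocal.isFinLocFreeOfRank_one_iff.1 (Dual.H339.OmegaRank.isFinLocFreeOfRank_omega 1 f)

theorem isInvertible_pow {X S : Scheme.{u}} {f : X ⟶ S} {g : ℕ} (hf : IsCurve f g) (n : ℕ) :
    PicF.IsInvertible (CohB1.tensorPow (Omega.sheaf f) n) := by
  have h1 := hf.proper
  have h2 := hf.rel
  exact Fdesc.LocGen.isInvertible_tensorPow (isInvertible_omega f) n

theorem nonempty_tensorPow_congr {X : Scheme.{u}} {L M : X.Modules} (e : L ≅ M) (n : ℕ) :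
    Nonempty (CohB1.tensorPow L n ≅ CohB1.tensorPow M n) := by
  induction n with
  | zero => exact ⟨Iso.refl _⟩
  | succ n ih =>
    obtain ⟨e'⟩ := ih
    exact ⟨((DCoh.tensorBi (X := X)).mapIso e').app L ≪≫
      ((DCoh.tensorBi (X := X)).obj (CohB1.tensorPow M n)).mapIso e⟩

/-- The powers of `Ω` commute with base change. -/
theorem nonempty_bc {X S X' S' : Scheme.{u}} {f : X ⟶ S} {v : X' ⟶ X} {f' : X' ⟶ S'} {w : S' ⟶ S}
    (H : IsPullback v f' f w) {g : ℕ} (hf : IsCurve f g) (n : ℕ) :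
    Nonempty ((Scheme.Modules.pullback v).obj (CohB1.tensorPow (Omega.sheaf f) n) ≅
      CohB1.tensorPow (Omega.sheaf f') n) := by
  have h1 := hf.proper
  have h2 := hf.rel
  obtain ⟨e1⟩ := Ega3B.PullTensor.nonempty_pullPowIso v (isInvertible_omega f) n
  obtain ⟨e2⟩ := nonempty_tensorPow_congr (Vancyc.H878.RelOmega.omegaBC H) n
  exact ⟨e1 ≪≫ e2⟩

theorem isRelVeryAmplePn_congr {X S : Scheme.{u}} {f : X ⟶ S} {L M : X.Modules} (e : L ≅ M)
    (h : RelAmple.IsRelVeryAmplePn f L) : RelAmple.IsRelVeryAmplePn f M := by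
  obtain ⟨n, i, h1, h2, ⟨e'⟩⟩ := h
  exact ⟨n, i, h1, h2, ⟨e.symm ≪≫ e'⟩⟩

theorem isRelVeryAmple_congr {X S : Scheme.{u}} {f : X ⟶ S} {L M : X.Modules} (e : L ≅ M)
    (h : RelProj.IsRelVeryAmple f L) : RelProj.IsRelVeryAmple f M := by
  obtain ⟨E, h1, 𝒮, j, h2, P, p, c, h3, O1, lam, h4, i, h5, h6, ⟨e'⟩⟩ := h
  exact ⟨E, h1, 𝒮, j, h2, P, p, c, h3, O1, lam, h4, i, h5, h6, ⟨e.symm ≪≫ e'⟩⟩

/-- The restriction of `Ω^{⊗ n}` to the fibres is very ample and without `H^1`. -/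
theorem fibre {X S : Scheme.{u}} {f : X ⟶ S} {g : ℕ} (hf : IsCurve f g) (hg : 2 ≤ g) (n : ℕ) (hn : 3 ≤ n)
    (s : S) :
    RelAmple.IsRelVeryAmplePn (f.fiberToSpecResidueField s)
      ((Scheme.Modules.pullback (f.fiberι s)).obj (CohB1.tensorPow (Omega.sheaf f) n)) ∧
    Subsingleton (Coh.HH (f.fiber s)
      ((Scheme.Modules.pullback (f.fiberι s)).obj (CohB1.tensorPow (Omega.sheaf f) n)) 1) := by
  let _ : (f.fiber s).Over (Spec (CommRingCat.of (S.residueField s))) :=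
    ⟨f.fiberToSpecResidueField s⟩
  have H := isPullback_fiber f s
  have hc : IsCurve ((f.fiber s) ↘ (Spec (CommRingCat.of (S.residueField s)))) g := hf.baseChange H
  obtain ⟨e⟩ := nonempty_bc H hf n
  obtain ⟨h1, h2⟩ := FibreVA.omega_pow (S.residueField s) (f.fiber s) hc hg n hn
  refine ⟨isRelVeryAmplePn_congr e.symm h1, ?_⟩
  have h3 : Subsingleton (Coh.HH (f.fiber s)
    (CohB1.tensorPow (Omega.sheaf (f.fiberToSpecResidueField s)) n) 1) := h2
  exact @Equiv.subsingleton _ _ (Fga.EulerIso.HHequiv (S.residueField s) e 1).toEquiv h3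

/-- Grothendieck vanishing on a curve over a field. -/
theorem subsingleton_two (K : Type u) [Field K] (Y : Scheme.{u}) [Y.Over (Spec (CommRingCat.of K))]
    {g : ℕ} (hc : IsCurve (Y ↘ (Spec (CommRingCat.of K))) g) (M : Y.Modules) (q : ℕ) (hq : 2 ≤ q) :
    Subsingleton (Coh.HH Y M q) := by
  obtain ⟨h1, -, -, hdim, -⟩ := hc.field K (𝟙 _) Y (𝟙 Y) (IsPullback.of_id_fst)
  have h1' : IsLocallyNoetherian Y :=
    LocallyOfFiniteType.isLocallyNoetherian (Y ↘ (Spec (CommRingCat.of K)))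
  have h2 : CompactSpace Y :=
    QuasiCompact.compactSpace_of_compactSpace (Y ↘ (Spec (CommRingCat.of K)))
  have : IsNoetherian Y := { }
  exact Groth.Agent.S0458.result 1 hdim.le (Coh.toAb M) q (by omega)

end K333.OmegaFam
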