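import Groth.Agent.Curves.K333.PushFree
import Groth.Agent.Curves.K333.OmegaFam
import Groth.Agent.Sga4B.RelSect
import Groth.Agent.Cohder.RDLES
import Groth.Agent.VarietyB.RestrSeq
import Groth.Agent.Models.H54.PosDeg
import Groth.Agent.CurvesB.VABaseChange
import Groth.Agent.Ega3B.ChiFib
import Groth.Agent.S0033

/-!
# The diagonal trick

Let `f : X ⟶ S` be a smooth curve of genus `g` and `L` an invertible module of degree `2g - 2` on the
fibres.  Then there is an invertible `M` with `M ⊗ Ω ≅ L` and an epimorphism `M ⟶ f^* R^1 f_* L`.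
-/

set_option autoImplicit false
universe u
open CategoryTheory CategoryTheory.Limits AlgebraicGeometry

namespace K333.Diag

open Groth.Agent K333.Fam K333.PushFree Groth.Agent.Grpsch.PicGrp

/-- degree `d` on all the base changes to fields. -/
def FibDeg {X S : Scheme.{u}} (f : X ⟶ S) (L : X.Modules) (d : ℤ) : Prop :=
  ∀ (K : Type u) [Field K] (t : Spec (CommRingCat.of K) ⟶ S) (Y : Scheme.{u})
    [Y.Over (Spec (CommRingCat.of K))] (j : Y ⟶ X), IsPullback j (Y ↘ Spec (CommRingCat.of K)) f t →
    Curv2.deg K Y ((Scheme.Modules.pullback j).obj L) 1 = d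

theorem deg_congr (K : Type u) [Field K] (Y : Scheme.{u}) [Y.Over (Spec (CommRingCat.of K))]
    {M N : Y.Modules} (e : M ≅ N) (n : ℕ) : Curv2.deg K Y M n = Curv2.deg K Y N n := by
  unfold Curv2.deg Curv2.euler
  simp only [(Fga.EulerIso.HHequiv K e _).finrank_eq]

theorem fibDeg_of_fibres {X S : Scheme.{u}} (f : X ⟶ S) [IsProper f] (L : X.Modules) (hL : PicF.IsInvertible L)
    (d : ℤ) (h : ∀ s : S, letI : (f.fiber s).Over (Spec (S.residueField s)) := ⟨f.fiberToSpecResidueField s⟩
      Curv2.deg (S.residueField s) (f.fiber s) ((Scheme.Modules.pullback (f.fiberι s)).obj L) 1 = d) :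
    FibDeg f L d := by
  intro K _ t Y _ j H
  let s : S := t (IsLocalRing.closedPoint K)
  let φ : S.residueField s ⟶ CommRingCat.of K := Scheme.descResidueField (Scheme.stalkClosedPointTo t)
  have hφ : Spec.map φ ≫ S.fromSpecResidueField s = t :=
    Scheme.descResidueField_stalkClosedPointTo_fromSpecResidueField K S t
  let _ : Algebra (S.residueField s) K := φ.hom.toAlgebra
  let _ : (f.fiber s).Over (Spec (CommRingCat.of (S.residueField s))) :=
    ⟨f.fiberToSpecResidueField s⟩
  have H0 : IsPullback (f.fiberι s) ((f.fiber s) ↘ Spec (CommRingCat.of (S.residueField s))) f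
    (S.fromSpecResidueField s) := isPullback_fiber f s
  let p : Y ⟶ f.fiber s := H0.lift j (Y ↘ Spec (CommRingCat.of K) ≫ Spec.map φ) (by
    rw [Category.assoc, hφ]; exact H.w)
  have hp1 : p ≫ f.fiberι s = j := H0.lift_fst _ _ _
  have hp2 : p ≫ ((f.fiber s) ↘ Spec (CommRingCat.of (S.residueField s))) =
    Y ↘ Spec (CommRingCat.of K) ≫ Spec.map φ := H0.lift_snd _ _ _
  have H1 : IsPullback p (Y ↘ Spec (CommRingCat.of K))
      ((f.fiber s) ↘ Spec (CommRingCat.of (S.residueField s)))
      (Spec.map (CommRingCat.ofHom (algebraMap (S.residueField s) K))) := by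
    refine IsPullback.of_right (h₁₂ := f.fiberι s) (h₂₂ := S.fromSpecResidueField s) (v₁₃ := f) ?_ hp2 H0
    rw [hp1]
    have hφ' : Spec.map (CommRingCat.ofHom (algebraMap (S.residueField s) K)) ≫
      S.fromSpecResidueField s = t := hφ
    rw [hφ']
    exact H
  have hpr : IsProper ((f.fiber s) ↘ Spec (CommRingCat.of (S.residueField s))) :=
    MorphismProperty.of_isPullback H0 inferInstance
  have hq : Coh.IsQCoh ((Scheme.Modules.pullback (f.fiberι s)).obj L) :=
    VarietyB.PullSec.isQCoh_pullback _ _ (Ega2.QCohLocal.isQCoh_of_isInvertible hL)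
  have h1 := CurvesB.VABaseChange.deg_eq H1 ((Scheme.Modules.pullback (f.fiberι s)).obj L) hq 1
  rw [← h s]
  refine Eq.trans (deg_congr K Y ?_ 1) h1
  exact (Scheme.Modules.pullbackCongr hp1.symm).app L ≪≫
    ((Scheme.Modules.pullbackComp p (f.fiberι s)).app L).symm

section

variable {X S : Scheme.{u}} {f : X ⟶ S} {g : ℕ}

/-- `p_1^* L (Δ)` has no higher cohomology on the fibres of `p_2`. -/
theorem noH (hf : IsCurve f g) (L : X.Modules) (hL : PicF.IsInvertible L) (hd : FibDeg f L (2 * (g : ℤ) - 2))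
    (J : (pullback f f).Modules)
    (hJ : ClSub.IsInverseOf J (ClSub.idealMod (pullback.diagonal f).ker)) :
    NoH (pullback.snd f f)
      (CohB1.tensorMod ((Scheme.Modules.pullback (pullback.fst f f)).obj L) J) := by
  intro K _ t Y _ j H q hq
  have i1 := hf.proper
  have i2 := hf.rel
  have HX : IsPullback (pullback.fst f f) (pullback.snd f f) f f := IsPullback.of_hasPullback _ _
  have hp2 : IsCurve (pullback.snd f f) g := hf.baseChange HX
  have hY : IsCurve (Y ↘ Spec (CommRingCat.of K)) g := hp2.baseChange H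
  rcases Nat.lt_or_ge 1 q with h1 | h1
  · exact OmegaFam.subsingleton_two K Y hY _ q h1
  obtain rfl : q = 1 := by omega
  have i3 := hp2.rel
  have i4 := hp2.proper
  have i5 := hY.proper
  have i6 := hY.smooth
  have i7 := hY.conn
  obtain ⟨-, -, -, hdim, hgen, h0, -⟩ := hp2.field K t Y j H
  have i8 : ConnectedSpace Y := GeometricallyConnected.connectedSpace_of_subsingleton
    (Y ↘ (Spec (CommRingCat.of K)))
  have i9 : IsIntegral Y := Pi1.H536.CurveFam.isIntegral_of_smooth K (Y ↘ (Spec (CommRingCat.of K)))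
  have hs : pullback.diagonal f ≫ pullback.snd f f = 𝟙 _ := pullback.diagonal_snd f
  have hD : BlowUp.IsEffCartierIdeal (pullback.diagonal f).ker :=
    Sga4B.RelSect.isEffCartierIdeal_ker (pullback.snd f f) (pullback.diagonal f) hs
  have hJi : PicF.IsInvertible J := (Dix.IdealModCartier.isInvertible_of_isInverseOf hJ).1
  have hL1 := Fdesc.LocGen.isInvertible_pullback (pullback.fst f f) hL
  -- the point of `Y` on the diagonal
  let t' : Spec (CommRingCat.of K) ⟶ Y := H.lift (t ≫ pullback.diagonal f) (𝟙 _) (by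
    rw [Category.assoc, hs, Category.comp_id, Category.id_comp])
  have ht1 : t' ≫ j = t ≫ pullback.diagonal f := H.lift_fst _ _ _
  have ht2 : t' ≫ (Y ↘ Spec (CommRingCat.of K)) = 𝟙 _ := H.lift_snd _ _ _
  have hcl : IsClosedImmersion t' := by
    have : IsClosedImmersion (t' ≫ (Y ↘ Spec (CommRingCat.of K))) := by rw [ht2]; infer_instance
    exact IsClosedImmersion.of_comp t' (Y ↘ Spec (CommRingCat.of K))
  let y : Y := t' (IsLocalRing.closedPoint K)
  have hrt : Set.range t' = {y} := by
    ext z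
    constructor
    · rintro ⟨w, rfl⟩
      rw [Subsingleton.elim w (IsLocalRing.closedPoint K)]
      rfl
    · rintro rfl
      exact ⟨_, rfl⟩
  have hcy : IsClosed ({y} : Set Y) := hrt ▸ t'.isClosedEmbedding.isClosed_range
  have hran : ∀ z : Y, j z ∈ (pullback.diagonal f).ker.support ↔ z = y := by
    intro z
    have h3 : t'.ker = (pullback.diagonal f).ker.comap j :=
      Sga4B.RelSect.ker_eq_comap hs H ht1 ht2
    have h4 : z ∈ ((pullback.diagonal f).ker.comap j).support ↔ j z ∈ (pullback.diagonal f).ker.support := by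
      rw [Scheme.IdealSheafData.support_comap]
      exact Iff.rfl
    rw [← h4, ← h3]
    change z ∈ ((t'.ker.support : TopologicalSpace.Closeds Y) : Set Y) ↔ _
    rw [Scheme.Hom.support_ker, hrt]
    rw [hcy.closure_eq]
    exact Set.mem_singleton_iff
  have hgy : genericPoint Y ≠ y := by
    intro h
    have h3 : closure ({y} : Set Y) = Set.univ := by rw [← h]; exact genericPoint_closure _
    rw [hcy.closure_eq] at h3
    have h4 : Subsingleton Y := by
      rw [← Set.subsingleton_univ_iff, ← h3]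
      exact Set.subsingleton_singleton
    have h5 : topologicalKrullDim Y ≤ 0 := topologicalKrullDim_zero_of_discreteTopology Y
    rw [hdim] at h5
    exact absurd h5 (by norm_num)
  have hpos : 0 < Curv2.deg K Y ((Scheme.Modules.pullback j).obj J) 1 :=
    Models.H54.PosDeg.deg_pos K hdim j hD (fun h => hgy ((hran _).1 h)) y ((hran y).2 rfl) J hJ
  obtain ⟨e⟩ := Dix.IdealModCartier.pullback_tensorMod j hL1 hJi
  have hdd : Curv2.deg K Y ((Scheme.Modules.pullback j).obj
      ((Scheme.Modules.pullback (pullback.fst f f)).obj L)) 1 = 2 * (g : ℤ) - 2 := by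
    rw [← hd K (t ≫ f) Y (j ≫ pullback.fst f f) (H.paste_horiz HX)]
    exact deg_congr K Y ((Scheme.Modules.pullbackComp j (pullback.fst f f)).app L) 1
  have h2 : Subsingleton (Coh.HH Y (CohB1.tensorMod
      ((Scheme.Modules.pullback j).obj ((Scheme.Modules.pullback (pullback.fst f f)).obj L))
      ((Scheme.Modules.pullback j).obj J)) 1) := by
    refine FibreVA.subsingleton_h1 K Y hdim h0 _ (Fdesc.LocGen.isInvertible_tensorMod
      (Fdesc.LocGen.isInvertible_pullback j hL1) (Fdesc.LocGen.isInvertible_pullback j hJi)) ?_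
    rw [Dix.InterNum.deg_tensor K Y hdim (Fdesc.LocGen.isInvertible_pullback j hL1)
      (Fdesc.LocGen.isInvertible_pullback j hJi), hdd, hgen]
    omega
  exact @Equiv.subsingleton _ _ (Fga.EulerIso.HHequiv K e 1).toEquiv h2

theorem exists_inv {X : Scheme.{u}} (I : X.Modules) (hI : PicF.IsInvertible I) :
    ∃ (J : X.Modules) (_ : PicF.IsInvertible J), ClSub.IsInverseOf J I := by
  obtain ⟨L, hL, h⟩ := exists_mk ((mk I hI)⁻¹)
  refine ⟨L, hL, ?_⟩
  have h1 : mk L hL * mk I hI = 1 := by rw [← h, inv_mul_cancel]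
  rw [mk_mul_mk, mk_eq_one_iff] at h1
  exact h1

/-- Push forward along an isomorphism is an equivalence. -/
theorem isEquivalence_push {Z Z' : Scheme.{u}} (e : Z ≅ Z') :
    (Scheme.Modules.pushforward e.hom).IsEquivalence := by
  have h1 : Scheme.Modules.pushforward e.inv ⋙ Scheme.Modules.pushforward e.hom ≅ 𝟭 _ :=
    Scheme.Modules.pushforwardComp e.inv e.hom ≪≫ Scheme.Modules.pushforwardCongr e.inv_hom_id ≪≫
      Scheme.Modules.pushforwardId Z'
  have h2 : Scheme.Modules.pushforward e.hom ⋙ Scheme.Modules.pushforward e.inv ≅ 𝟭 _ :=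
    Scheme.Modules.pushforwardComp e.hom e.inv ≪≫ Scheme.Modules.pushforwardCongr e.hom_inv_id ≪≫
      Scheme.Modules.pushforwardId Z
  exact (CategoryTheory.Equivalence.mk (Scheme.Modules.pushforward e.hom)
    (Scheme.Modules.pushforward e.inv) h2.symm h1).isEquivalence_functor

theorem nonempty_pushPull {Z Z' W : Scheme.{u}} (e : Z ≅ Z') (ι : Z' ⟶ W) (i : Z ⟶ W) (h : e.hom ≫ ι = i)
    (E : W.Modules) :
    Nonempty ((Scheme.Modules.pushforward ι).obj ((Scheme.Modules.pullback ι).obj E) ≅
      (Scheme.Modules.pushforward i).obj ((Scheme.Modules.pullback i).obj E)) := by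
  subst h
  have := isEquivalence_push e
  have : (Scheme.Modules.pullback e.hom).IsEquivalence :=
    (Scheme.Modules.pullbackPushforwardAdjunction e.hom).isEquivalence_left_of_isEquivalence_right
  exact ⟨(Scheme.Modules.pushforward ι).mapIso
    (asIso ((Scheme.Modules.pullbackPushforwardAdjunction e.hom).unit.app
      ((Scheme.Modules.pullback ι).obj E))) ≪≫
    (Scheme.Modules.pushforwardComp e.hom ι).app _ ≪≫
    (Scheme.Modules.pushforward (e.hom ≫ ι)).mapIso ((Scheme.Modules.pullbackComp e.hom ι).app E)⟩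

/-- The diagonal trick. -/
theorem exists_epi [HasInjectiveResolutions X.Modules] (hf : IsCurve f g) (L : X.Modules)
    (hL : PicF.IsInvertible L) (hd : FibDeg f L (2 * (g : ℤ) - 2)) :
    ∃ (M : X.Modules) (_ : PicF.IsInvertible M) (_ : Nonempty (CohB1.tensorMod M (Omega.sheaf f) ≅ L))
      (δ : M ⟶ (Scheme.Modules.pullback f).obj ((Coh.Rpush f 1).obj L)), Epi δ := by
  have i1 := hf.proper
  have i2 := hf.rel
  have i5 := hf.smooth
  have HX : IsPullback (pullback.fst f f) (pullback.snd f f) f f := IsPullback.of_hasPullback _ _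
  have hp2 : IsCurve (pullback.snd f f) g := hf.baseChange HX
  have i3 := hp2.rel
  have i4 := hp2.proper
  have i6 := hp2.smooth
  have hs : pullback.diagonal f ≫ pullback.snd f f = 𝟙 _ := pullback.diagonal_snd f
  have hs1 : pullback.diagonal f ≫ pullback.fst f f = 𝟙 _ := pullback.diagonal_fst f
  have hD : BlowUp.IsEffCartierIdeal (pullback.diagonal f).ker :=
    Sga4B.RelSect.isEffCartierIdeal_ker (pullback.snd f f) (pullback.diagonal f) hs
  have hI : PicF.IsInvertible (ClSub.idealMod (pullback.diagonal f).ker) :=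
    Dix.IdealModCartier.isInvertible_idealMod hD
  obtain ⟨J, hJi, hJ⟩ := exists_inv _ hI
  have hL1 := Fdesc.LocGen.isInvertible_pullback (pullback.fst f f) hL
  let V : (pullback f f).Modules :=
    CohB1.tensorMod ((Scheme.Modules.pullback (pullback.fst f f)).obj L) J
  have hV : PicF.IsInvertible V := Fdesc.LocGen.isInvertible_tensorMod hL1 hJi
  have iR : HasInjectiveResolutions (pullback f f).Modules := Dcoh.DerSch.hasInjectiveResolutions _
  have hvan : IsZero ((Coh.Rpush (pullback.snd f f) 1).obj V) :=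
    (PushFree.main V (Ega3B.ChiFib.isFP_of_isInvertible hV)
      (Ega3B.ChiFib.isFlatOver_of_isInvertible (pullback.snd f f) hV) (noH hf L hL hd J hJ)).1 1 le_rfl
  have hVI : Nonempty (CohB1.tensorMod V (ClSub.idealMod (pullback.diagonal f).ker) ≅
      (Scheme.Modules.pullback (pullback.fst f f)).obj L) := by
    rw [← mk_eq_iff (Fdesc.LocGen.isInvertible_tensorMod hV hI) hL1, ← mk_mul_mk hV hI]
    have h1 : mk J hJi * mk _ hI = 1 := by
      rw [mk_mul_mk, mk_eq_one_iff]
      exact hJ
    rw [show mk V hV = mk _ hL1 * mk J hJi from (mk_mul_mk hL1 hJi).symm, mul_assoc, h1, mul_one]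
  obtain ⟨eVI⟩ := hVI
  have hse := VarietyB.RestrSeq.restrSeq_shortExact
    (VarietyB.TensCoh.HasBases.of_isFinLocFreeOfRank (Ega2.QCohLocal.isFinLocFreeOfRank_one_iff.2 hV))
    (pullback.diagonal f).ker
  obtain ⟨-, -, δ, hδ⟩ := Cohder.RDLES.exists_les (F := Scheme.Modules.pushforward (pullback.snd f f)) hse
  obtain ⟨w₁, w₂, -, hex⟩ := hδ 0
  have hepi : Epi (δ 0) := hex.epi_f (hvan.eq_of_tgt _ _)
  obtain ⟨e1⟩ := nonempty_pushPull (asIso (pullback.diagonal f).toImage)
    (pullback.diagonal f).ker.subschemeι (pullback.diagonal f) (pullback.diagonal f).toImage_imageι V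
  let M : X.Modules := (Scheme.Modules.pullback (pullback.diagonal f)).obj V
  let e2 : M ≅ ((Scheme.Modules.pushforward (pullback.snd f f)).rightDerived 0).obj
      ((Scheme.Modules.pushforward (pullback.diagonal f).ker.subschemeι).obj
        ((Scheme.Modules.pullback (pullback.diagonal f).ker.subschemeι).obj V)) :=
    ((Scheme.Modules.pushforwardId X).app M).symm ≪≫
      (Scheme.Modules.pushforwardCongr hs.symm).app M ≪≫
      ((Scheme.Modules.pushforwardComp (pullback.diagonal f) (pullback.snd f f)).app M).symm ≪≫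
      (Scheme.Modules.pushforward (pullback.snd f f)).mapIso e1.symm ≪≫
      ((Scheme.Modules.pushforward (pullback.snd f f)).rightDerivedZeroIsoSelf.app _).symm
  have hLq : Coh.IsQCoh L := Ega2.QCohLocal.isQCoh_of_isInvertible hL
  obtain ⟨e3⟩ := S0033.result f f (pullback.fst f f) (pullback.snd f f) HX L 1
  let e4 : (Coh.Rpush (pullback.snd f f) 1).obj
      (CohB1.tensorMod V (ClSub.idealMod (pullback.diagonal f).ker)) ≅
      (Scheme.Modules.pullback f).obj ((Coh.Rpush f 1).obj L) :=
    (Coh.Rpush (pullback.snd f f) 1).mapIso eVI ≪≫ e3.symm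
  have hM : PicF.IsInvertible M := Fdesc.LocGen.isInvertible_pullback (pullback.diagonal f) hV
  have hMΩ : Nonempty (CohB1.tensorMod M (Omega.sheaf f) ≅ L) := by
    obtain ⟨e5⟩ := Dix.IdealModCartier.pullback_tensorMod (pullback.diagonal f) hV hI
    exact ⟨e5.symm ≪≫ (Scheme.Modules.pullback (pullback.diagonal f)).mapIso eVI ≪≫
      (Scheme.Modules.pullbackComp (pullback.diagonal f) (pullback.fst f f)).app L ≪≫
      (Scheme.Modules.pullbackCongr hs1).app L ≪≫ (Scheme.Modules.pullbackId X).app L⟩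
  have he4 : Epi e4.hom := @IsIso.epi_of_iso _ _ _ _ e4.hom (Iso.isIso_hom e4)
  have he2 : Epi e2.hom := @IsIso.epi_of_iso _ _ _ _ e2.hom (Iso.isIso_hom e2)
  have hepi' : Epi (δ 0 ≫ e4.hom) := @epi_comp _ _ _ _ _ (δ 0) hepi e4.hom he4
  exact ⟨M, hM, hMΩ, e2.hom ≫ (δ 0 ≫ e4.hom), @epi_comp _ _ _ _ _ e2.hom he2 _ hepi'⟩

end

end K333.Diag
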