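import Groth.Agent.Curves.K333.TwoTerm
import Mathlib.RingTheory.Spectrum.Prime.FreeLocus

/-!
# `H^0` and `H^1` of a family of curves in terms of the two-term complex

`Comp A X F d`: the map `d : K₀ → K₁` computes the cohomology of `F` universally.
-/

set_option autoImplicit false
universe u

open CategoryTheory CategoryTheory.Limits AlgebraicGeometry TensorProduct

namespace K333.HOne

open Groth.Agent

section Alg

variable {A : Type u} [CommRing A] {K₀ K₁ : Type u} [AddCommGroup K₀] [Module A K₀]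
  [AddCommGroup K₁] [Module A K₁] (d : K₀ →ₗ[A] K₁)

/-- The cokernel commutes with base change. -/
theorem nonempty_coker (B : Type u) [CommRing B] [Algebra A B] :
    Nonempty (((B ⊗[A] K₁) ⧸ LinearMap.range (d.baseChange B)) ≃ₗ[B]
      B ⊗[A] (K₁ ⧸ LinearMap.range d)) := by
  have h1 : Function.Surjective ((LinearMap.range d).mkQ.baseChange B) :=
    LinearMap.lTensor_surjective B (Submodule.mkQ_surjective _)
  have h2 : Function.Exact (d.baseChange B) ((LinearMap.range d).mkQ.baseChange B) :=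
    lTensor_exact B (LinearMap.exact_map_mkQ_range d) (Submodule.mkQ_surjective _)
  rw [LinearMap.exact_iff] at h2
  rw [← h2]
  exact ⟨LinearMap.quotKerEquivOfSurjective _ h1⟩

theorem nonempty_self_coker :
    Nonempty (((A ⊗[A] K₁) ⧸ LinearMap.range (d.baseChange A)) ≃ₗ[A] (K₁ ⧸ LinearMap.range d)) := by
  obtain ⟨e⟩ := nonempty_coker d A
  exact ⟨e.trans (TensorProduct.lid A _)⟩

theorem nonempty_self_ker :
    Nonempty (LinearMap.ker (d.baseChange A) ≃ₗ[A] LinearMap.ker d) := by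
  refine ⟨LinearEquiv.ofSubmodules (TensorProduct.lid A K₀) _ _ ?_⟩
  ext x
  simp only [Submodule.mem_map, LinearMap.mem_ker]
  constructor
  · rintro ⟨y, hy, rfl⟩
    obtain ⟨z, rfl⟩ := (TensorProduct.lid A K₀).symm.surjective y
    simp only [LinearEquiv.coe_coe, TensorProduct.lid_symm_apply] at hy ⊢
    rw [LinearMap.baseChange_tmul] at hy
    have := congrArg (TensorProduct.lid A K₁) hy
    simpa using this
  · intro hx
    exact ⟨1 ⊗ₜ x, by rw [LinearMap.baseChange_tmul, hx, tmul_zero], by simp⟩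

end Alg

variable (A : Type u) [CommRing A] (X : Scheme.{u}) [X.Over (Spec (CommRingCat.of A))]

/-- `d : K₀ → K₁` computes the cohomology of `F` universally. -/
def Comp (F : X.Modules) {K₀ K₁ : Type u} [AddCommGroup K₀] [Module A K₀]
    [AddCommGroup K₁] [Module A K₁] (d : K₀ →ₗ[A] K₁) : Prop :=
  ∀ (B : Type u) [CommRing B] (φ : A →+* B) (Y : Scheme.{u}) [Y.Over (Spec (CommRingCat.of B))]
    (j : Y ⟶ X) (_ : IsPullback j (Y ↘ Spec (CommRingCat.of B)) (X ↘ Spec (CommRingCat.of A))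
      (Spec.map (CommRingCat.ofHom φ))) (F' : Y.Modules)
    (_ : Nonempty ((Scheme.Modules.pullback j).obj F ≅ F')),
    letI := φ.toAlgebra
    Nonempty (Coh.HH Y F' 0 ≃ₗ[B] LinearMap.ker (d.baseChange B)) ∧
    Nonempty (Coh.HH Y F' 1 ≃ₗ[B] ((B ⊗[A] K₁) ⧸ LinearMap.range (d.baseChange B))) ∧
    ∀ q : ℕ, 2 ≤ q → Subsingleton (Coh.HH Y F' q)

variable {A X} {F : X.Modules} {K₀ K₁ : Type u} [AddCommGroup K₀] [Module A K₀]
    [AddCommGroup K₁] [Module A K₁] {d : K₀ →ₗ[A] K₁}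

theorem isPullback_self : IsPullback (𝟙 X) (X ↘ Spec (CommRingCat.of A)) (X ↘ Spec (CommRingCat.of A))
      (Spec.map (CommRingCat.ofHom (RingHom.id A))) := by
  have h : Spec.map (CommRingCat.ofHom (RingHom.id A)) = 𝟙 (Spec (CommRingCat.of A)) := Spec.map_id _
  rw [h]
  exact IsPullback.of_horiz_isIso ⟨by simp⟩

/-- version with an algebra structure given -/
theorem Comp.alg (h : Comp A X F d) (B : Type u) [CommRing B] [i : Algebra A B] (Y : Scheme.{u})
    [Y.Over (Spec (CommRingCat.of B))]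
    (j : Y ⟶ X) (H : IsPullback j (Y ↘ Spec (CommRingCat.of B)) (X ↘ Spec (CommRingCat.of A))
      (Spec.map (CommRingCat.ofHom (algebraMap A B)))) (F' : Y.Modules)
    (e : Nonempty ((Scheme.Modules.pullback j).obj F ≅ F')) :
    Nonempty (Coh.HH Y F' 0 ≃ₗ[B] LinearMap.ker (d.baseChange B)) ∧
    Nonempty (Coh.HH Y F' 1 ≃ₗ[B] ((B ⊗[A] K₁) ⧸ LinearMap.range (d.baseChange B))) ∧
    ∀ q : ℕ, 2 ≤ q → Subsingleton (Coh.HH Y F' q) := by
  obtain ⟨φ, hφ⟩ : ∃ φ : A →+* B, i = φ.toAlgebra :=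
    ⟨algebraMap A B, Algebra.algebra_ext _ _ fun _ => rfl⟩
  subst hφ
  exact h B φ Y j H F' e

theorem Comp.self (h : Comp A X F d) :
    Nonempty (Coh.HH X F 0 ≃ₗ[A] LinearMap.ker d) ∧
    Nonempty (Coh.HH X F 1 ≃ₗ[A] (K₁ ⧸ LinearMap.range d)) ∧
    ∀ q : ℕ, 2 ≤ q → Subsingleton (Coh.HH X F q) := by
  obtain ⟨⟨e0⟩, ⟨e1⟩, e2⟩ := h.alg A X (𝟙 X) isPullback_self F ⟨(Scheme.Modules.pullbackId X).app F⟩
  obtain ⟨e0'⟩ := nonempty_self_ker d
  obtain ⟨e1'⟩ := nonempty_self_coker d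
  exact ⟨⟨e0.trans e0'⟩, ⟨e1.trans e1'⟩, e2⟩

/-- `H^1` commutes with base change. -/
theorem Comp.one (h : Comp A X F d) (B : Type u) [CommRing B] [i : Algebra A B] (Y : Scheme.{u})
    [Y.Over (Spec (CommRingCat.of B))]
    (j : Y ⟶ X) (H : IsPullback j (Y ↘ Spec (CommRingCat.of B)) (X ↘ Spec (CommRingCat.of A))
      (Spec.map (CommRingCat.ofHom (algebraMap A B)))) (F' : Y.Modules)
    (e : Nonempty ((Scheme.Modules.pullback j).obj F ≅ F')) :
    Nonempty (Coh.HH Y F' 1 ≃ₗ[B] B ⊗[A] (Coh.HH X F 1)) := by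
  obtain ⟨-, ⟨e1⟩, -⟩ := h.self
  obtain ⟨-, ⟨e2⟩, -⟩ := h.alg B Y j H F' e
  obtain ⟨e3⟩ := nonempty_coker d B
  exact ⟨(e2.trans e3).trans (LinearEquiv.baseChange A B _ _ e1.symm)⟩

theorem Comp.finite [Module.Finite A K₁] (h : Comp A X F d) : Module.Finite A (Coh.HH X F 1) := by
  obtain ⟨-, ⟨e1⟩, -⟩ := h.self
  exact Module.Finite.equiv e1.symm

theorem Comp.finitePresentation [Module.Finite A K₀] [Module.Finite A K₁] [Module.Projective A K₁]
    (h : Comp A X F d) : Module.FinitePresentation A (Coh.HH X F 1) := by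
  obtain ⟨-, ⟨e1⟩, -⟩ := h.self
  have : Module.FinitePresentation A K₁ := Module.finitePresentation_of_projective A K₁
  have : Module.FinitePresentation A (K₁ ⧸ LinearMap.range d) :=
    Module.finitePresentation_of_surjective (LinearMap.range d).mkQ
      (Submodule.mkQ_surjective _) (by
        rw [Submodule.ker_mkQ, LinearMap.range_eq_map]
        exact (Module.Finite.fg_top).map d)
  exact Module.FinitePresentation.of_equiv e1.symm

/-- rank of `H^1` when it is flat -/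
theorem Comp.rankAtStalk [Module.Finite A K₁] (h : Comp A X F d) [Module.Flat A (Coh.HH X F 1)]
    (p : PrimeSpectrum A) (Y : Scheme.{u})
    [Y.Over (Spec (CommRingCat.of p.asIdeal.ResidueField))]
    (j : Y ⟶ X) (H : IsPullback j (Y ↘ Spec (CommRingCat.of p.asIdeal.ResidueField))
      (X ↘ Spec (CommRingCat.of A))
      (Spec.map (CommRingCat.ofHom (algebraMap A p.asIdeal.ResidueField)))) (F' : Y.Modules)
    (e : Nonempty ((Scheme.Modules.pullback j).obj F ≅ F')) :
    Module.rankAtStalk (Coh.HH X F 1) p = Module.finrank p.asIdeal.ResidueField (Coh.HH Y F' 1) := by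
  have := h.finite
  obtain ⟨e1⟩ := h.one p.asIdeal.ResidueField Y j H F' e
  rw [Module.rankAtStalk_eq, e1.finrank_eq]

end K333.HOne
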