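import Mathlib.RingTheory.LocalRing.Module
import Mathlib.RingTheory.Nakayama
import Mathlib.Algebra.Module.FinitePresentation
import Mathlib.LinearAlgebra.Dual.Lemmas
import Mathlib.RingTheory.Ideal.Cotangent

set_option autoImplicit false
universe u v

/-!
A finitely presented module `M` over a local ring `A` such that `Hom_A(M, A/J)` is a projective
`A/J`-module for every ideal `J` is free.
-/

namespace Groth.Agent.Curves.K333.HomFree

open IsLocalRing

/-- over a local ring `B` with a nonzero element killed by the maximal ideal, a projective submodule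
of `B^r` containing `m B^r` is everything -/
theorem eq_top {B : Type u} [CommRing B] [IsLocalRing B] {z : B} (hz : z ≠ 0)
    (hzmem : z ∈ maximalIdeal B) (hzm : ∀ b ∈ maximalIdeal B, b * z = 0) {r : ℕ} (P : Submodule B (Fin r → B))
    [Module.Projective B P] (hP : ∀ x : Fin r → B, (∀ j, x j ∈ maximalIdeal B) → x ∈ P) :
    P = ⊤ := by
  classical
  by_contra hne
  -- a standard basis vector not in P
  have h1 : ∃ i : Fin r, (Pi.single i (1 : B)) ∉ P := by
    by_contra h
    push Not at h
    apply hne
    rw [eq_top_iff]
    intro x _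
    have : x = ∑ i, x i • (Pi.single i (1 : B) : Fin r → B) := by
      ext j
      simp [Finset.sum_apply, Pi.single_apply]
    rw [this]
    exact Submodule.sum_mem _ fun i _ => P.smul_mem _ (h i)
  obtain ⟨i, hi⟩ := h1
  -- reduction
  let κ := ResidueField B
  let W : Submodule κ (Fin r → κ) :=
    { carrier := {w | ∃ x ∈ P, ∀ j, residue B (x j) = w j}
      zero_mem' := ⟨0, P.zero_mem, fun j => by simp⟩
      add_mem' := by
        rintro a b ⟨x, hx, hxa⟩ ⟨y, hy, hyb⟩
        exact ⟨x + y, P.add_mem hx hy, fun j => by simp [hxa, hyb]⟩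
      smul_mem' := by
        rintro c a ⟨x, hx, hxa⟩
        obtain ⟨c, rfl⟩ := residue_surjective c
        exact ⟨c • x, P.smul_mem _ hx, fun j => by simp [hxa]⟩ }
  have hW : (Pi.single i (1 : κ) : Fin r → κ) ∉ W := by
    rintro ⟨x, hx, hxi⟩
    apply hi
    have hm : (Pi.single i (1 : B) - x : Fin r → B) ∈ P := by
      apply hP
      intro j
      rw [← residue_eq_zero_iff, Pi.sub_apply, map_sub, hxi j]
      by_cases hj : j = i
      · subst hj; simp
      · simp [Pi.single_apply, hj]
    simpa using P.add_mem hm hx
  obtain ⟨l, hl, hlW⟩ := Submodule.exists_le_ker_of_notMem hW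
  -- lift the functional
  choose lam hlam using fun j : Fin r => residue_surjective (l (Pi.single j 1))
  let L : (Fin r → B) →ₗ[B] B := ∑ j, lam j • LinearMap.proj j
  have hLr : ∀ x : Fin r → B, residue B (L x) = l (fun j => residue B (x j)) := by
    intro x
    have hx : (fun j => residue B (x j)) = ∑ j, residue B (x j) • (Pi.single j (1 : κ) : Fin r → κ) := by
      ext k
      simp [Finset.sum_apply, Pi.single_apply]
    rw [hx, map_sum]
    simp only [L, LinearMap.sum_apply, LinearMap.smul_apply, LinearMap.proj_apply, smul_eq_mul,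
      map_sum, map_mul, hlam, map_smul]
    exact Finset.sum_congr rfl fun j _ => mul_comm _ _
  have hLP : ∀ x ∈ P, L x ∈ maximalIdeal B := by
    intro x hx
    rw [← residue_eq_zero_iff, hLr]
    exact hlW (x := fun j => residue B (x j)) ⟨x, hx, fun j => rfl⟩
  -- the element z e_i
  have hzP : z • (Pi.single i (1 : B) : Fin r → B) ∈ P := by
    apply hP
    intro j
    by_cases hj : j = i
    · subst hj; simpa using hzmem
    · simp [Pi.single_apply, hj]
  obtain ⟨s, hs⟩ := (Module.projective_def (R := B) (P := P)).mp inferInstance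
  let t : P := ⟨_, hzP⟩
  have ht0 : ∀ b ∈ maximalIdeal B, b • t = 0 := by
    intro b hb
    apply Subtype.ext
    change b • (z • (Pi.single i (1 : B) : Fin r → B)) = 0
    rw [smul_smul, hzm b hb, zero_smul]
  have hst : ∀ p, ∀ b ∈ maximalIdeal B, b * (s t p) = 0 := by
    intro p b hb
    have := congrArg (fun f => s f p) (ht0 b hb)
    simpa using this
  have h2 : (t : Fin r → B) = ∑ p ∈ (s t).support, (s t p) • (p : Fin r → B) := by
    have h3 := hs t
    rw [Finsupp.linearCombination_apply, Finsupp.sum] at h3
    have h4 := congrArg (Subtype.val) h3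
    rw [← h4]
    simp
  have h5 : L (t : Fin r → B) = 0 := by
    rw [h2, map_sum]
    apply Finset.sum_eq_zero
    intro p _
    rw [map_smul, smul_eq_mul, mul_comm]
    exact hst p _ (hLP _ p.2)
  have h6 : L (t : Fin r → B) = L (Pi.single i 1) * z := by
    change L (z • (Pi.single i (1 : B) : Fin r → B)) = _
    rw [map_smul, smul_eq_mul, mul_comm]
  have h7 : IsUnit (L (Pi.single i 1)) := by
    by_contra h
    have h8 := (mem_maximalIdeal _).mpr h
    rw [← residue_eq_zero_iff, hLr] at h8
    apply hl
    convert h8 using 2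
    ext j
    by_cases hj : j = i
    · subst hj; simp
    · simp [Pi.single_apply, hj]
  rw [h6] at h5
  exact hz ((h7.mul_right_eq_zero).mp h5)

variable {A : Type u} [CommRing A] [IsLocalRing A] {M : Type v} [AddCommGroup M] [Module A M]

/-- evaluation of `Hom_A(M, B)` at a family -/
def ev (B : Type u) [CommRing B] [Algebra A B] {r : ℕ} (m : Fin r → M) :
    (M →ₗ[A] B) →ₗ[B] (Fin r → B) where
  toFun φ := fun j => φ (m j)
  map_add' _ _ := rfl
  map_smul' _ _ := rfl

theorem exists_min [Module.Finite A M] : ∃ (r : ℕ) (m : Fin r → M),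
    Submodule.span A (Set.range m) = ⊤ ∧
      ∀ a : Fin r → A, ∑ j, a j • m j = 0 → ∀ j, a j ∈ maximalIdeal A := by
  let κ := ResidueField A
  let b := Module.finBasis κ (TensorProduct A κ M)
  have hs : Function.Surjective ((TensorProduct.mk A κ M) 1) :=
    TensorProduct.mk_surjective A M κ residue_surjective
  choose m hm using fun j => hs (b j)
  refine ⟨_, m, IsLocalRing.span_eq_top_of_tmul_eq_basis m b hm, ?_⟩
  intro a ha j
  have h1 : ∑ j, residue A (a j) • b j = 0 := by
    have h2 := congrArg ((TensorProduct.mk A κ M) 1) ha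
    rw [map_sum, map_zero] at h2
    rw [← h2]
    refine Finset.sum_congr rfl fun j _ => ?_
    rw [map_smul, hm, ← IsScalarTower.algebraMap_smul κ]
    rfl
  have h3 := (Fintype.linearIndependent_iff.mp b.linearIndependent) _ h1 j
  exact residue_eq_zero_iff _ |>.mp h3

theorem free [Module.FinitePresentation A M]
    (h : ∀ J : Ideal A, Module.Projective (A ⧸ J) (M →ₗ[A] (A ⧸ J))) : Module.Free A M := by
  classical
  obtain ⟨r, m, hsp, hmin⟩ := exists_min (A := A) (M := M)
  let π : (Fin r → A) →ₗ[A] M := Fintype.linearCombination A m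
  have hπ : Function.Surjective π := by
    rw [← LinearMap.range_eq_top]
    change LinearMap.range (Fintype.linearCombination A m) = ⊤
    rw [Fintype.range_linearCombination, hsp]
  have hker : (LinearMap.ker π).FG := Module.FinitePresentation.fg_ker π hπ
  let I : Ideal A := ⨆ j, Submodule.map (LinearMap.proj j) (LinearMap.ker π)
  have hIfg : I.FG := Submodule.fg_iSup _ fun j => hker.map _
  have hmem : ∀ x ∈ LinearMap.ker π, ∀ j, x j ∈ I := fun x hx j =>
    (le_iSup (fun j => Submodule.map (LinearMap.proj j) (LinearMap.ker π)) j) ⟨x, hx, rfl⟩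
  by_cases hI : I = ⊥
  · have hinj : Function.Injective π := by
      rw [← LinearMap.ker_eq_bot, eq_bot_iff]
      intro x hx
      rw [Submodule.mem_bot]
      ext j
      have := hmem x hx j
      rw [hI] at this
      simpa using this
    exact Module.Free.of_equiv (LinearEquiv.ofBijective π ⟨hinj, hπ⟩)
  · exfalso
    have hIm : I ≤ maximalIdeal A := by
      refine iSup_le fun j => ?_
      rintro _ ⟨x, hx, rfl⟩
      exact hmin x (by simpa [π, Fintype.linearCombination_apply] using hx) j
    let J : Ideal A := maximalIdeal A * I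
    have hJI : ¬ I ≤ J := by
      intro hle
      apply hI
      refine Submodule.eq_bot_of_le_smul_of_le_jacobson_bot (maximalIdeal A) I hIfg ?_
        (IsLocalRing.maximalIdeal_le_jacobson ⊥)
      simpa [J, smul_eq_mul] using hle
    have hex : ∃ x ∈ LinearMap.ker π, ∃ i, x i ∉ J := by
      by_contra hcon
      push Not at hcon
      apply hJI
      refine iSup_le fun j => ?_
      rintro _ ⟨x, hx, rfl⟩
      exact hcon x hx j
    obtain ⟨x, hx, i, hxi⟩ := hex
    have hJm : J ≤ maximalIdeal A := Ideal.mul_le_left
    have hJtop : J ≠ ⊤ := fun h => (maximalIdeal.isMaximal A).ne_top (top_le_iff.mp (h ▸ hJm))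
    have : Nontrivial (A ⧸ J) := Ideal.Quotient.nontrivial_iff.mpr hJtop
    have : IsLocalRing (A ⧸ J) :=
      IsLocalRing.of_surjective' (Ideal.Quotient.mk J) Ideal.Quotient.mk_surjective
    have := h J
    have hmax : ∀ b ∈ maximalIdeal (A ⧸ J), ∃ a ∈ maximalIdeal A, Ideal.Quotient.mk J a = b := by
      intro b hb
      obtain ⟨a, rfl⟩ := Ideal.Quotient.mk_surjective b
      refine ⟨a, ?_, rfl⟩
      rw [mem_maximalIdeal, mem_nonunits_iff]
      intro hu
      exact (mem_maximalIdeal _).mp hb (hu.map _)
    let E := ev (A := A) (A ⧸ J) m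
    have hEinj : Function.Injective E := by
      intro φ ψ hφ
      refine LinearMap.ext_on hsp ?_
      rintro _ ⟨j, rfl⟩
      exact congrFun hφ j
    have : Module.Projective (A ⧸ J) (LinearMap.range E) :=
      Module.Projective.of_equiv (LinearEquiv.ofInjective E hEinj)
    have htop := eq_top (B := A ⧸ J) (z := Ideal.Quotient.mk J (x i))
      (fun h => hxi (Ideal.Quotient.eq_zero_iff_mem.mp h))
      (by
        rw [mem_maximalIdeal, mem_nonunits_iff]
        intro hu
        have h1 : x i ∈ maximalIdeal A := hIm (hmem x hx i)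
        obtain ⟨c, hc⟩ := hu.exists_right_inv
        obtain ⟨c, rfl⟩ := Ideal.Quotient.mk_surjective c
        rw [← map_mul, ← map_one (Ideal.Quotient.mk J), Ideal.Quotient.eq] at hc
        have h2 : (1 : A) ∈ maximalIdeal A := by
          have := (maximalIdeal A).sub_mem ((maximalIdeal A).mul_mem_right c h1) (hJm hc)
          simpa using this
        exact (maximalIdeal.isMaximal A).ne_top ((Ideal.eq_top_iff_one _).mpr h2))
      (by
        intro b hb
        obtain ⟨a, ha, rfl⟩ := hmax b hb
        rw [← map_mul]
        exact Ideal.Quotient.eq_zero_iff_mem.mpr (Ideal.mul_mem_mul ha (hmem x hx i)))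
      (LinearMap.range E)
      (by
        intro y hy
        let φ₀ : (Fin r → A) →ₗ[A] (A ⧸ J) := Fintype.linearCombination A y
        have hk : LinearMap.ker π ≤ LinearMap.ker φ₀ := by
          intro w hw
          rw [LinearMap.mem_ker, Fintype.linearCombination_apply]
          refine Finset.sum_eq_zero fun j _ => ?_
          obtain ⟨a, ha, hay⟩ := hmax _ (hy j)
          rw [← hay, Algebra.smul_def]
          change Ideal.Quotient.mk J (w j) * Ideal.Quotient.mk J a = 0
          rw [← map_mul, mul_comm]
          exact Ideal.Quotient.eq_zero_iff_mem.mpr (Ideal.mul_mem_mul ha (hmem w hw j))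
        let φ : M →ₗ[A] (A ⧸ J) :=
          ((LinearMap.ker π).liftQ φ₀ hk).comp (LinearMap.quotKerEquivOfSurjective π hπ).symm.toLinearMap
        have hφ : ∀ w, φ (π w) = φ₀ w := by
          intro w
          have : (LinearMap.quotKerEquivOfSurjective π hπ).symm (π w) = Submodule.Quotient.mk w := by
            rw [LinearEquiv.symm_apply_eq]; rfl
          change ((LinearMap.ker π).liftQ φ₀ hk) ((LinearMap.quotKerEquivOfSurjective π hπ).symm (π w)) = _
          rw [this]; rfl
        refine ⟨φ, ?_⟩
        ext j
        change φ (m j) = y j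
        have h1 : π (Pi.single j 1) = m j := by
          simp [π, Fintype.linearCombination_apply_single]
        rw [← h1, hφ]
        simp [φ₀, Fintype.linearCombination_apply_single])
    obtain ⟨φ, hφ⟩ : (Pi.single i (1 : A ⧸ J) : Fin r → A ⧸ J) ∈ LinearMap.range E := by
      rw [htop]; trivial
    have h0 : φ (π x) = 0 := by rw [LinearMap.mem_ker.mp hx, map_zero]
    rw [Fintype.linearCombination_apply, map_sum] at h0
    have h1 : ∀ j, φ (x j • m j) = Ideal.Quotient.mk J (x j) * (Pi.single i (1 : A ⧸ J) : Fin r → A ⧸ J) j := by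
      intro j
      rw [map_smul, Algebra.smul_def]
      congr 1
      exact congrFun hφ j
    simp only [h1, Pi.single_apply, mul_ite, mul_one, mul_zero, Finset.sum_ite_eq', Finset.mem_univ,
      if_true] at h0
    exact hxi (Ideal.Quotient.eq_zero_iff_mem.mp h0)

end Groth.Agent.Curves.K333.HomFree
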