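import Groth.Agent.Curves.K754.QuotFam
import Groth.Agent.S18900
import Groth.Agent.CurvesB.VABaseChange
import Groth.Agent.Ega2.Normal

/-!
# Double covers of conic bundles and quotients by involutions
-/

set_option autoImplicit false
universe u

open CategoryTheory CategoryTheory.Limits AlgebraicGeometry

namespace K333.Invol

open Groth.Agent Groth.Agent.Sga1.QuotBasic K754.QuotFam

/-- The quotient by a trivial action is an isomorphism. -/
theorem isIso_of_trivial {X Y : Scheme.{u}} {G : Type u} [Group G] {ρ : G →* Aut X} {p : X ⟶ Y}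
    (hp : SGA1.IsQuot ρ p) (h : ∀ g, ρ g = 1) : IsIso p := by
  have haff : IsAffineHom p := hp.affine
  refine Ega2.Normal.isIso_of_bijective_app p fun y => ?_
  obtain ⟨V, hV, hyV, -⟩ := exists_isAffineOpen_mem_and_subset (x := y) (U := ⊤) trivial
  refine ⟨V, hyV, hV, hp.injective V, fun s => ?_⟩
  refine (hp.range_iff V s).2 fun g => ?_
  have h2 : (ρ g).hom = 𝟙 X := by rw [h g]; rfl
  rw [appLE_congr_hom h2, id_appLE_self]
  rfl

/-- The genus is invariant under isomorphisms. -/
theorem genus_eq_of_iso (k : Type u) [Field k] {X Y : Scheme.{u}} (p : X ⟶ Spec (CommRingCat.of k))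
    (q : Y ⟶ Spec (CommRingCat.of k)) [IsProper q] (e : X ⟶ Y) [IsIso e] (h : e ≫ q = p) :
    @Curv2.genus k _ X ⟨p⟩ = @Curv2.genus k _ Y ⟨q⟩ := by
  let _ : X.Over (Spec (CommRingCat.of k)) := ⟨p⟩
  let _ : Y.Over (Spec (CommRingCat.of k)) := ⟨q⟩
  have hid : Spec.map (CommRingCat.ofHom (algebraMap k k)) = 𝟙 (Spec (CommRingCat.of k)) := Spec.map_id _
  have hpb : IsPullback e (X ↘ Spec (CommRingCat.of k)) (Y ↘ Spec (CommRingCat.of k))
      (Spec.map (CommRingCat.ofHom (algebraMap k k))) := by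
    rw [hid]
    exact IsPullback.of_horiz_isIso ⟨by rw [Category.comp_id]; exact h⟩
  have hY : IsProper (Y ↘ Spec (CommRingCat.of k)) := inferInstanceAs (IsProper q)
  exact CurvesB.VABaseChange.genus_eq hpb

section Main

variable {X Y S : Scheme.{u}} {G : Type u} [Group G] {π : X ⟶ Y} {q : Y ⟶ S} {ρ : G →* Aut X}

/-- The quotient of a family of smooth proper curves by a finite group acting faithfully on the fibres. -/
theorem main [Finite G] (hρ : ∀ g : G, (ρ g).hom ≫ π ≫ q = π ≫ q) [IsProper (π ≫ q)] [Smooth (π ≫ q)]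
    [GeometricallyConnected (π ≫ q)]
    (hdim : ∀ s : S, topologicalKrullDim ↥((π ≫ q).fiber s) = 1)
    (hG : IsUnit ((Nat.card G : ℕ) : Γ(S, ⊤)))
    (hfaith : ∀ s : S, Function.Injective (fibAct ρ hρ s))
    (hquot : SGA1.IsQuot ρ π) :
    IsProper q ∧ Smooth q ∧ GeometricallyConnected q ∧ (∀ s : S, topologicalKrullDim ↥(q.fiber s) = 1) ∧
      IsFinite π ∧ Flat π ∧ LocallyOfFinitePresentation π ∧ ∀ y : Y, π.finrank y = Nat.card G := by
  have hsurj : Surjective π := ⟨surjective_of_isQuot hquot⟩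
  have hfin : IsFinite π := (S2909.result ρ π hquot (π ≫ q) q rfl hρ).2.2.1 inferInstance
  have hqlfp : LocallyOfFinitePresentation q :=
    K754.TameQuot.locallyOfFinitePresentation hquot rfl hρ hG
  have hqprop : IsProper q := K754.TameQuot.isProper hquot rfl hρ
  have hπlfp : LocallyOfFinitePresentation π := Flat2D.LfpComp.lfp_of_comp π q
  have hprop : ∀ s : S, IsProper ((π ≫ q).fiberToSpecResidueField s) := fun s =>
    inferInstanceAs (IsProper (pullback.snd (π ≫ q) (S.fromSpecResidueField s)))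
  have hsm : ∀ s : S, Smooth ((π ≫ q).fiberToSpecResidueField s) := fun s =>
    inferInstanceAs (Smooth (pullback.snd (π ≫ q) (S.fromSpecResidueField s)))
  have key := fun s : S => K754.QuotCurve.main (S.residueField s) ((π ≫ q).fiberToSpecResidueField s) (hdim s)
    (card_residueField_ne_zero hG s) (fibAct ρ hρ s) (hfaith s)
    (fibAct_right ρ hρ s) (MoreMor.fiberMap π q s) (q.fiberToSpecResidueField s)
    (K633.FlatBC.fiberMap_toSpec π q s) (isQuot_fiber hρ hquot hG s)
  have hflat : Flat π := by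
    apply Flat.of_stalkMap
    intro x
    exact (K633.FlatCore.flat_of_fibres_lfp π q (fun s => (key s).2.2.2.2.2.1) x).2
  refine ⟨hqprop, S0115.result π q, K469.Integral.geometricallyConnected_of_comp π q,
    fun s => (key s).2.2.2.1, hfin, hflat, hπlfp, fun y => ?_⟩
  have h1 := (key (q y)).2.2.2.2.2.2 (q.asFiber y)
  rw [Scheme.Hom.finrank_of_isPullback _ _ _ _
    (K633.FlatBC.isPullback_fiberMap_fiberι π q (q y)).flip, Scheme.Hom.fiberι_asFiber] at h1
  exact h1

end Main

section Involution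

variable {X P S : Scheme.{u}} {π : X ⟶ P} {q : P ⟶ S} {σ : Aut X}

theorem mem_zpowers (hσ : σ * σ = 1) (g : Subgroup.zpowers σ) : (g : Aut X) = 1 ∨ (g : Aut X) = σ := by
  obtain ⟨_, k, rfl⟩ := g
  rcases Int.even_or_odd k with ⟨m, rfl⟩ | ⟨m, rfl⟩
  · left
    change σ ^ (m + m) = 1
    rw [← two_mul, zpow_mul, zpow_two, hσ, one_zpow]
  · right
    change σ ^ (2 * m + 1) = σ
    rw [zpow_add, zpow_mul, zpow_two, hσ, one_zpow, one_mul, zpow_one]

/-- If the fibre of the quotient by an involution is not isomorphic to the fibre, then the quotient is a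
double cover. -/
theorem double_cover (h2 : IsUnit (2 : Γ(S, ⊤))) [IsProper (π ≫ q)] [Smooth (π ≫ q)]
    [GeometricallyConnected (π ≫ q)]
    (hdim : ∀ s : S, topologicalKrullDim ↥((π ≫ q).fiber s) = 1)
    (hσ : σ * σ = 1) (hσf : σ.hom ≫ π ≫ q = π ≫ q)
    (hquot : SGA1.IsQuot (Subgroup.zpowers σ).subtype π)
    (hne : ∀ s : S, ¬ IsIso (MoreMor.fiberMap π q s)) :
    IsFinite π ∧ Flat π ∧ LocallyOfFinitePresentation π ∧ ∀ y : P, π.finrank y = 2 := by
  have hρ : ∀ g : Subgroup.zpowers σ, ((Subgroup.zpowers σ).subtype g).hom ≫ π ≫ q = π ≫ q := by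
    intro g
    rcases mem_zpowers hσ g with h | h
    · change (g : Aut X).hom ≫ π ≫ q = π ≫ q
      rw [h]
      exact Category.id_comp _
    · change (g : Aut X).hom ≫ π ≫ q = π ≫ q
      rw [h]
      exact hσf
  have hfo : IsOfFinOrder σ := isOfFinOrder_iff_pow_eq_one.2 ⟨2, by norm_num, by rw [pow_two, hσ]⟩
  have hfin : Finite (Subgroup.zpowers σ) := (finite_zpowers.2 hfo).to_subtype
  have hcard : Nat.card (Subgroup.zpowers σ) = orderOf σ := Nat.card_zpowers σ
  have hdvd : orderOf σ ∣ 2 := orderOf_dvd_of_pow_eq_one (by rw [pow_two, hσ])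
  have hG : IsUnit ((Nat.card (Subgroup.zpowers σ) : ℕ) : Γ(S, ⊤)) := by
    rw [hcard]
    rcases (Nat.dvd_prime Nat.prime_two).1 hdvd with h | h
    · rw [h]; simp
    · rw [h]; exact_mod_cast h2
  have hfaith : ∀ s : S, Function.Injective (fibAct (Subgroup.zpowers σ).subtype hρ s) := by
    intro s
    rw [injective_iff_map_eq_one]
    intro a ha
    by_contra hne1
    have haσ : (a : Aut X) = σ := by
      rcases mem_zpowers hσ a with h | h
      · exact absurd (Subtype.ext h) hne1
      · exact h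
    apply hne s
    refine isIso_of_trivial (isQuot_fiber hρ hquot hG s) fun g => ?_
    rcases mem_zpowers hσ g with h | h
    · have : g = 1 := Subtype.ext h
      rw [this, map_one]
    · have : g = a := Subtype.ext (h.trans haσ.symm)
      rw [this, ha]
  obtain ⟨-, -, -, -, h5, h6, h7, h8⟩ := main hρ hdim hG hfaith hquot
  refine ⟨h5, h6, h7, fun y => ?_⟩
  rw [h8 y, hcard]
  rcases (Nat.dvd_prime Nat.prime_two).1 hdvd with h | h
  · exfalso
    apply hne (q y)
    have hσ1 : σ = 1 := orderOf_eq_one_iff.1 h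
    refine isIso_of_trivial (isQuot_fiber hρ hquot hG (q y)) fun g => ?_
    have : g = 1 := Subtype.ext (by
      rcases mem_zpowers hσ g with h | h
      · exact h
      · rw [h, hσ1]; rfl)
    rw [this, map_one]
  · exact h

end Involution

end K333.Invol
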