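import Groth.Agent.Curves.K333.Fam

/-!
# The open locus where a proper smooth morphism is a curve of genus `g`

`exists_locus`: for `f : X ⟶ S` proper and smooth there is an open `W ⊆ S` such that a base change
`f' : X' ⟶ S'` of `f` along `w` is a smooth curve of genus `g` if and only if `w` factors through `W`.
-/

set_option autoImplicit false
universe u
open CategoryTheory CategoryTheory.Limits AlgebraicGeometry

namespace K333.Locus

open Groth.Agent Groth.Agent.Pi1.H536 K333.Fam

theorem finsum_key (b : ℕ → ℕ) (hb0 : b 0 = 1) (hb2 : ∀ i, 2 ≤ i → b i = 0) :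
    (finsum fun i : ℕ => (-1 : ℤ) ^ i * (b i : ℤ)) = 1 - b 1 := by
  rw [finsum_eq_sum_of_support_subset (s := Finset.range 2)]
  · simp [Finset.sum_range_succ, hb0]
    ring
  · intro i hi
    simp only [Function.mem_support, ne_eq, mul_eq_zero, not_or] at hi
    by_contra hcon
    simp only [Finset.coe_range, Set.mem_Iio, not_lt] at hcon
    exact hi.2 (by rw [hb2 i hcon]; rfl)

variable {X S : Scheme.{u}} (f : X ⟶ S)

/-- The open part of `X` where `f` has relative dimension `1`. -/
def U₁ : X.Opens := ⨆ V : {V : X.Opens // SmoothOfRelativeDimension 1 (V.ι ≫ f)}, V.1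

theorem mem_U₁ (x : X) : x ∈ U₁ f ↔ ∃ V : X.Opens, x ∈ V ∧ SmoothOfRelativeDimension 1 (V.ι ≫ f) := by
  unfold U₁
  rw [TopologicalSpace.Opens.mem_iSup]
  constructor
  · rintro ⟨⟨V, hV⟩, hx⟩
    exact ⟨V, hx, hV⟩
  · rintro ⟨V, hx, hV⟩
    exact ⟨⟨V, hV⟩, hx⟩

/-- If all the points of `X` over `s = t x` lie in an open where the relative dimension is one... -/
theorem mem_U₁_of_field [Smooth f] (K : Type u) [Field K] (t : Spec (CommRingCat.of K) ⟶ S)
    (X' : Scheme.{u}) (p' : X' ⟶ Spec (CommRingCat.of K)) (j : X' ⟶ X) (h : IsPullback j p' f t)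
    [SmoothOfRelativeDimension 1 p'] (s : ↥(Spec (CommRingCat.of K))) (x : X) (hx : f x = t s) :
    x ∈ U₁ f := by
  rw [mem_U₁]
  obtain ⟨m, V, hxV, hm⟩ := CurveFam.exists_relDim f x
  refine ⟨V, hxV, ?_⟩
  obtain ⟨z, hz, -⟩ := Scheme.Pullback.exists_preimage_pullback x s hx
  let z' : X' := h.isoPullback.inv z
  have hz' : j z' = x := by
    rw [← hz]
    exact congr($(h.isoPullback_inv_fst) z)
  have hpb : IsPullback (j ∣_ V) ((j ⁻¹ᵁ V).ι ≫ p') (V.ι ≫ f) t :=
    (isPullback_morphismRestrict j V).paste_vert h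
  have hbc := smoothOfRelativeDimension_isStableUnderBaseChange (n := m)
  have h1 : SmoothOfRelativeDimension m ((j ⁻¹ᵁ V).ι ≫ p') :=
    MorphismProperty.of_isPullback (P := @SmoothOfRelativeDimension m) hpb hm
  have h2 : m = 1 := CurveFam.relDim_unique K p' 1 m (j ⁻¹ᵁ V) ⟨z', by simpa [hz'] using hxV⟩ h1
  subst h2
  exact hm

/-- The locus. -/
theorem exists_locus [IsProper f] [Smooth f] (g : ℕ) :
    ∃ W : S.Opens, ∀ (X' S' : Scheme.{u}) (v : X' ⟶ X) (f' : X' ⟶ S') (w : S' ⟶ S),
      IsPullback v f' f w → ((∀ s', w s' ∈ W) ↔ IsCurve f' g) := by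
  let W₀ : S.Opens := ⟨{s : S | PerfAux.betti f (Coh.structureModule X) s 0 < 2},
    PerfB.Semi.isOpen_betti f (Coh.structureModule X) (PerfB.StructFlat.isFP_structure)
      (PerfB.StructFlat.isFlatOver_structure f) 0 2⟩
  let W₁ : S.Opens := ⟨Set.range f, (f.isOpenMap).isOpen_range⟩
  let W₂ : S.Opens := ⟨{s : S | PerfAux.eulerChar f (Coh.structureModule X) s = 1 - g},
    PerfB.Semi.isLocallyConstant_euler f (Coh.structureModule X) (PerfB.StructFlat.isFP_structure)
      (PerfB.StructFlat.isFlatOver_structure f) {1 - (g : ℤ)}⟩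
  let W₃ : S.Opens := ⟨(f '' ((U₁ f : Set X)ᶜ))ᶜ,
    (f.isClosedMap _ (U₁ f).isOpen.isClosed_compl).isOpen_compl⟩
  refine ⟨W₀ ⊓ W₁ ⊓ W₂ ⊓ W₃, fun X' S' v f' w h => ⟨fun hW => ?_, fun hf' s' => ?_⟩⟩
  · have p1 : IsProper f' := MorphismProperty.of_isPullback h inferInstance
    have p2 : Smooth f' := MorphismProperty.of_isPullback h inferInstance
    -- relative dimension one
    have p3 : SmoothOfRelativeDimension 1 f' := by
      let ι := {V : X'.Opens // SmoothOfRelativeDimension 1 (V.ι ≫ f')}
      have htop : iSup (fun V : ι => V.1) = ⊤ := by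
        rw [eq_top_iff]
        intro x' _
        have h1 : v x' ∈ U₁ f := by
          by_contra hcon
          apply (hW (f' x')).2
          refine ⟨v x', hcon, ?_⟩
          exact congr($(h.w) x')
        obtain ⟨V, hxV, hV⟩ := (mem_U₁ f _).1 h1
        have hpb : IsPullback (v ∣_ V) ((v ⁻¹ᵁ V).ι ≫ f') (V.ι ≫ f) w :=
          (isPullback_morphismRestrict v V).paste_vert h
        have hbc := smoothOfRelativeDimension_isStableUnderBaseChange (n := 1)
        have h2 : SmoothOfRelativeDimension 1 ((v ⁻¹ᵁ V).ι ≫ f') :=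
          MorphismProperty.of_isPullback (P := @SmoothOfRelativeDimension 1) hpb hV
        exact TopologicalSpace.Opens.mem_iSup.2 ⟨⟨v ⁻¹ᵁ V, h2⟩, hxV⟩
      have hZ : IsZariskiLocalAtSource (@SmoothOfRelativeDimension 1) :=
        HasRingHomProperty.instIsZariskiLocalAtSource
      exact IsZariskiLocalAtSource.of_iSup_eq_top (P := @SmoothOfRelativeDimension 1)
        (fun V : ι => V.1) htop fun V => V.2
    have p4 : ∀ (K : Type u) [Field K] (t : Spec (CommRingCat.of K) ⟶ S') (Y : Scheme.{u})
        [Y.Over (Spec (CommRingCat.of K))] (j : Y ⟶ X')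
        (H : IsPullback j (Y ↘ Spec (CommRingCat.of K)) f' t),
        Module.finrank K (Coh.HH Y (Coh.structureModule Y) 0) = 1 := by
      intro K _ t Y _ j H
      have hp : IsProper (Y ↘ Spec (CommRingCat.of K)) := MorphismProperty.of_isPullback H inferInstance
      let x₀ : ↥(Spec (CommRingCat.of K)) := IsLocalRing.closedPoint K
      have h1 := GenusFam.finrank_eq_betti f K (t ≫ w) x₀ (j ≫ v) (H.paste_horiz h) 0
      have h2 : PerfAux.betti f (Coh.structureModule X) ((t ≫ w) x₀) 0 < 2 := (hW (t x₀)).1.1.1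
      have hn : Nonempty Y := by
        obtain ⟨x, hx⟩ : (t ≫ w) x₀ ∈ Set.range f := (hW (t x₀)).1.1.2
        obtain ⟨z, hz, -⟩ := Scheme.Pullback.exists_preimage_pullback x x₀ hx
        exact ⟨(H.paste_horiz h).isoPullback.inv z⟩
      have h3 := GenusFam.one_le_finrank K Y
      omega
    have p5 : GeometricallyConnected f' := by
      refine ⟨fun K _ y Z fst snd H => ?_⟩
      let _ : Z.Over (Spec (CommRingCat.of K)) := ⟨snd⟩
      exact CurveFam.connectedSpace_of_h0 K Z (p4 K y Z fst H)
    refine ⟨p1, p3, p5, fun s => ?_⟩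
    let _ : (f'.fiber s).Over (Spec (CommRingCat.of (S'.residueField s))) :=
      ⟨f'.fiberToSpecResidueField s⟩
    have H := isPullback_fiber f' s
    have q1 : IsProper ((f'.fiber s) ↘ (Spec (CommRingCat.of (S'.residueField s)))) :=
      MorphismProperty.of_isPullback H inferInstance
    have q2 : Smooth ((f'.fiber s) ↘ (Spec (CommRingCat.of (S'.residueField s)))) :=
      MorphismProperty.of_isPullback H inferInstance
    have q3 : GeometricallyConnected ((f'.fiber s) ↘ (Spec (CommRingCat.of (S'.residueField s)))) :=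
      MorphismProperty.of_isPullback H inferInstance
    have hbc := smoothOfRelativeDimension_isStableUnderBaseChange (n := 1)
    have q4 : SmoothOfRelativeDimension 1 ((f'.fiber s) ↘ (Spec (CommRingCat.of (S'.residueField s)))) :=
      MorphismProperty.of_isPullback (P := @SmoothOfRelativeDimension 1) H p3
    have q5 : ConnectedSpace ↥(f'.fiber s) := GeometricallyConnected.connectedSpace_of_subsingleton
      ((f'.fiber s) ↘ (Spec (CommRingCat.of (S'.residueField s))))
    have q6 : topologicalKrullDim ↥(f'.fiber s) = 1 := CurveFam.topologicalKrullDim_eq _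
      ((f'.fiber s) ↘ (Spec (CommRingCat.of (S'.residueField s)))) 1
    obtain ⟨c0, c2⟩ := CurveFam.curve_cohomology (S'.residueField s) (f'.fiber s) q6
    let x₀ : ↥(Spec (CommRingCat.of (S'.residueField s))) := IsLocalRing.closedPoint (S'.residueField s)
    have hx₀ : (S'.fromSpecResidueField s) x₀ = s := S'.fromSpecResidueField_apply s _
    have b1 := GenusFam.finrank_eq_betti f (S'.residueField s) (S'.fromSpecResidueField s ≫ w) x₀
      (f'.fiberι s ≫ v) (H.paste_horiz h)
    have b2 := GenusFam.finrank_eq_betti f' (S'.residueField s) (S'.fromSpecResidueField s) x₀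
      (f'.fiberι s) H
    have e1 : PerfAux.eulerChar f (Coh.structureModule X) ((S'.fromSpecResidueField s ≫ w) x₀) = 1 - g :=
      (hW ((S'.fromSpecResidueField s) x₀)).1.2
    have e2 : PerfAux.eulerChar f (Coh.structureModule X) ((S'.fromSpecResidueField s ≫ w) x₀) =
        1 - (PerfAux.betti f (Coh.structureModule X) ((S'.fromSpecResidueField s ≫ w) x₀) 1 : ℤ) := by
      unfold PerfAux.eulerChar
      refine finsum_key (fun i => PerfAux.betti f (Coh.structureModule X)
        ((S'.fromSpecResidueField s ≫ w) x₀) i) ?_ ?_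
      · rw [← b1]; exact c0
      · intro i hi
        rw [← b1]
        have := c2 i hi
        exact Module.finrank_zero_of_subsingleton
    have e3 : PerfAux.betti f (Coh.structureModule X) ((S'.fromSpecResidueField s ≫ w) x₀) 1 = g := by
      omega
    have e4 := (b2 1).symm.trans (b1 1)
    rw [hx₀] at e4
    rw [e4, e3]
  · -- the converse
    let K := S'.residueField s'
    let t : Spec (CommRingCat.of K) ⟶ S := S'.fromSpecResidueField s' ≫ w
    let Y := f'.fiber s'
    let _ : Y.Over (Spec (CommRingCat.of K)) := ⟨f'.fiberToSpecResidueField s'⟩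
    have H := isPullback_fiber f' s'
    obtain ⟨c1, c2, c3, c4, c5, c6, c7⟩ := hf'.field K (S'.fromSpecResidueField s') Y (f'.fiberι s') H
    let x₀ : ↥(Spec (CommRingCat.of K)) := IsLocalRing.closedPoint K
    have hx₀ : (S'.fromSpecResidueField s') x₀ = s' := S'.fromSpecResidueField_apply s' _
    have hx₁ : t x₀ = w s' := by
      change w ((S'.fromSpecResidueField s') x₀) = w s'
      rw [hx₀]
    have b1 := GenusFam.finrank_eq_betti f K t x₀ (f'.fiberι s' ≫ v) (H.paste_horiz h)
    rw [hx₁] at b1
    have hn : Nonempty Y := GenusFam.nonempty_of_finrank K Y c6.ge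
    refine ⟨⟨⟨?_, ?_⟩, ?_⟩, ?_⟩
    · change PerfAux.betti f (Coh.structureModule X) (w s') 0 < 2
      rw [← b1 0, c6]
      norm_num
    · obtain ⟨y⟩ := hn
      refine ⟨(f'.fiberι s' ≫ v) y, ?_⟩
      have h3 := congr($((H.paste_horiz h).w) y)
      have h4 : (Y ↘ Spec (CommRingCat.of K)) y = x₀ := by
        have : Subsingleton ↥(Spec (CommRingCat.of K)) := inferInstanceAs (Subsingleton (PrimeSpectrum K))
        exact Subsingleton.elim _ _
      have h5 : f ((f'.fiberι s' ≫ v) y) = t ((Y ↘ Spec (CommRingCat.of K)) y) := h3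
      rw [h5, h4, hx₁]
    · change PerfAux.eulerChar f (Coh.structureModule X) (w s') = 1 - g
      unfold PerfAux.eulerChar
      rw [finsum_key (fun i => PerfAux.betti f (Coh.structureModule X) (w s') i)]
      · rw [← b1 1]
        have : Module.finrank K (Coh.HH Y (Coh.structureModule Y) 1) = g := c5
        rw [this]
      · rw [← b1]; exact c6
      · intro i hi
        rw [← b1]
        have := c7 i hi
        exact Module.finrank_zero_of_subsingleton
    · rintro ⟨x, hx, hxs⟩
      exact hx (mem_U₁_of_field f K t Y (Y ↘ Spec (CommRingCat.of K)) (f'.fiberι s' ≫ v)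
        (H.paste_horiz h) x₀ x (hxs.trans hx₁.symm))

end K333.Locus
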