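import Groth.Agent.Curves.K333.OmegaOne
import Groth.Agent.Curves.K333.Diag
import Groth.Agent.Curves.K333.InvEpi

/-!
# `R^1 f_* Ω = O_S` and the characterisation of `Ω`
-/

set_option autoImplicit false
universe u
open CategoryTheory CategoryTheory.Limits AlgebraicGeometry Opposite

namespace K333.OmegaMain

open Groth.Agent K333.Fam K333.Families

variable {X S : Scheme.{u}} {f : X ⟶ S} {g : ℕ}

/-- `R^1 f_* Ω` is invertible. -/
theorem isInvertible_R1 (hf : IsCurve f g) [HasInjectiveResolutions X.Modules] :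
    PicF.IsInvertible ((Coh.Rpush f 1).obj (Omega.sheaf f)) := by
  have i1 := hf.proper
  have i2 := hf.rel
  have hΩ : PicF.IsInvertible (Omega.sheaf f) := OmegaFam.isInvertible_omega f
  have hq0 : Coh.IsQCoh (Omega.sheaf f) := Ega2.QCohLocal.isQCoh_of_isInvertible hΩ
  have hQ : Coh.IsQCoh ((Coh.Rpush f 1).obj (Omega.sheaf f)) := S0030.result f (Omega.sheaf f) 1
  rw [← Ega2.QCohLocal.isFinLocFreeOfRank_one_iff]
  intro x
  obtain ⟨V, hV, hxV, -⟩ := exists_isAffineOpen_mem_and_subset (x := x) (U := ⊤) trivial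
  let iO : (f ⁻¹ᵁ V).toScheme.Over (Spec (CommRingCat.of Γ(S, V))) := ⟨Ega3B.PackageAsm.strMap f hV⟩
  have H : IsPullback (f ⁻¹ᵁ V).ι ((f ⁻¹ᵁ V).toScheme ↘ Spec (CommRingCat.of Γ(S, V))) f hV.fromSpec :=
    isPullback_strMap f hV
  have hc : IsCurve ((f ⁻¹ᵁ V).toScheme ↘ Spec (CommRingCat.of Γ(S, V))) g := hf.baseChange H
  obtain ⟨e0⟩ := Ega3B.RpushAff.exists_linearEquiv f (Omega.sheaf f) hq0 hV 1
  let e1 : (Omega.sheaf f).restrict (f ⁻¹ᵁ V).ι ≅
      Omega.sheaf ((f ⁻¹ᵁ V).toScheme ↘ Spec (CommRingCat.of Γ(S, V))) :=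
    (Scheme.Modules.restrictFunctorIsoPullback _).app _ ≪≫ Vancyc.H878.RelOmega.omegaBC H
  let e : Γ((Coh.Rpush f 1).obj (Omega.sheaf f), V) ≃ₗ[Γ(S, V)]
      Coh.HH (f ⁻¹ᵁ V).toScheme (Omega.sheaf ((f ⁻¹ᵁ V).toScheme ↘ Spec (CommRingCat.of Γ(S, V)))) 1 :=
    e0.trans (CurvesA.HHMap.equivOver Γ(S, V) e1 1)
  obtain ⟨h1, h2, h3⟩ := OmegaOne.projective Γ(S, V) (f ⁻¹ᵁ V).toScheme hc
  have i3 := Module.Finite.equiv e.symm
  have i4 := Module.Projective.of_equiv e.symm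
  have : Module.FinitePresentation Γ(S, V) Γ((Coh.Rpush f 1).obj (Omega.sheaf f), V) :=
    Module.finitePresentation_of_projective _ _
  obtain ⟨U, hxU, -, e'⟩ := Ega3B.LocFree.exists_restrict_iso_freeMod
    ((Coh.Rpush f 1).obj (Omega.sheaf f)) hV ⟨x, hxV⟩
  refine ⟨U, hxU, ?_⟩
  rw [Module.rankAtStalk_eq_of_equiv e, h3] at e'
  exact e'

/-- The degree of `Ω` on the fibres. -/
theorem fibDeg_omega (hf : IsCurve f g) : Diag.FibDeg f (Omega.sheaf f) (2 * (g : ℤ) - 2) := by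
  have i1 := hf.proper
  have i2 := hf.rel
  intro K _ t Y _ j H
  rw [← (CurveCoh.finrank_hh_one_omega K Y (hf.baseChange H)).2]
  exact Diag.deg_congr K Y (Vancyc.H878.RelOmega.omegaBC H) 1

/-- `R^1 f_* Ω = O_S`. -/
theorem nonempty_R1_iso (hf : IsCurve f g) [HasInjectiveResolutions X.Modules] :
    Nonempty ((Coh.Rpush f 1).obj (Omega.sheaf f) ≅ Coh.structureModule S) := by
  have i1 := hf.proper
  have i2 := hf.rel
  have i3 := hf.smooth
  have i4 := hf.conn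
  have hΩ : PicF.IsInvertible (Omega.sheaf f) := OmegaFam.isInvertible_omega f
  have hN := isInvertible_R1 hf
  obtain ⟨M, hM, hMΩ, δ, hδ⟩ := Diag.exists_epi hf _ hΩ (fibDeg_omega hf)
  have hfN := Fdesc.LocGen.isInvertible_pullback f hN
  have h1 : IsIso δ := InvEpi.isIso_of_epi hM hfN δ
  refine InvEpi.nonempty_iso_of_pullback f (Stein.isIso_unitToPush f) hN ?_
  have h2 : Nonempty (M ≅ Coh.structureModule X) := by
    rw [← Grpsch.PicGrp.mk_eq_one_iff hM]
    have h3 : Grpsch.PicGrp.mk M hM * Grpsch.PicGrp.mk _ hΩ = Grpsch.PicGrp.mk _ hΩ := by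
      rw [Grpsch.PicGrp.mk_mul_mk, Grpsch.PicGrp.mk_eq_iff]
      exact hMΩ
    exact mul_eq_right.1 h3
  obtain ⟨e⟩ := h2
  exact ⟨(asIso δ).symm ≪≫ e⟩

/-- An invertible module of degree `2g - 2` on the fibres with `R^1 f_* L = O_S` is `Ω`. -/
theorem nonempty_iso_omega (hf : IsCurve f g) [HasInjectiveResolutions X.Modules] (L : X.Modules)
    (hL : PicF.IsInvertible L) (hd : Diag.FibDeg f L (2 * (g : ℤ) - 2))
    (h : Nonempty ((Coh.Rpush f 1).obj L ≅ Coh.structureModule S)) : Nonempty (L ≅ Omega.sheaf f) := by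
  have i1 := hf.proper
  have i2 := hf.rel
  have hΩ : PicF.IsInvertible (Omega.sheaf f) := OmegaFam.isInvertible_omega f
  obtain ⟨M, hM, hMΩ, δ, hδ⟩ := Diag.exists_epi hf L hL hd
  obtain ⟨e⟩ := h
  let e1 : (Scheme.Modules.pullback f).obj ((Coh.Rpush f 1).obj L) ≅ Coh.structureModule X :=
    (Scheme.Modules.pullback f).mapIso e ≪≫ CurvesA.HHMap.pullbackUnit f
  have hO : PicF.IsInvertible (Coh.structureModule X) := Fdesc.LocGen.isInvertible_structureModule
  have h1 : IsIso (δ ≫ e1.hom) := InvEpi.isIso_of_epi hM hO _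
  rw [← Grpsch.PicGrp.mk_eq_iff hL hΩ]
  have h2 : Grpsch.PicGrp.mk M hM = 1 := by
    rw [Grpsch.PicGrp.mk_eq_one_iff]
    exact ⟨asIso (δ ≫ e1.hom)⟩
  have h3 : Grpsch.PicGrp.mk M hM * Grpsch.PicGrp.mk _ hΩ = Grpsch.PicGrp.mk L hL := by
    rw [Grpsch.PicGrp.mk_mul_mk, Grpsch.PicGrp.mk_eq_iff]
    exact hMΩ
  rw [← h3, h2, one_mul]

/-- The characterisation of `Ω`. -/
theorem main (hf : IsCurve f g) [HasInjectiveResolutions X.Modules] (L : X.Modules)
    (hL : PicF.IsInvertible L) :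
    Nonempty (L ≅ Omega.sheaf f) ↔
      (Nonempty ((Coh.Rpush f 1).obj L ≅ Coh.structureModule S) ∧
        ∀ s : S, letI : (f.fiber s).Over (Spec (S.residueField s)) := ⟨f.fiberToSpecResidueField s⟩
          Curv2.deg (S.residueField s) (f.fiber s) ((Scheme.Modules.pullback (f.fiberι s)).obj L) 1 =
            2 * (g : ℤ) - 2) := by
  have i1 := hf.proper
  constructor
  · rintro ⟨e⟩
    refine ⟨?_, fun s => ?_⟩
    · obtain ⟨e'⟩ := nonempty_R1_iso hf
      exact ⟨(Coh.Rpush f 1).mapIso e ≪≫ e'⟩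
    · let _ : (f.fiber s).Over (Spec (CommRingCat.of (S.residueField s))) :=
        ⟨f.fiberToSpecResidueField s⟩
      refine (Diag.deg_congr (S.residueField s) (f.fiber s)
        ((Scheme.Modules.pullback (f.fiberι s)).mapIso e) 1).trans ?_
      exact fibDeg_omega hf (S.residueField s) (S.fromSpecResidueField s) (f.fiber s) (f.fiberι s)
        (isPullback_fiber f s)
  · rintro ⟨h1, h2⟩
    exact nonempty_iso_omega hf L hL (Diag.fibDeg_of_fibres f L hL _ h2) h1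

end K333.OmegaMain
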