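import Groth.Agent.Curves.K333.Trace
import Groth.Agent.Curves.K333.CycProj
import Groth.Agent.Curves.K333.Approx

/-!
# `R^1 f_* Ω` is invertible for a smooth curve of genus `g`
-/

set_option autoImplicit false
universe u
open CategoryTheory CategoryTheory.Limits AlgebraicGeometry TensorProduct Opposite

namespace K333.OmegaOne

open Groth.Agent K333.Fam K333.HOne K333.Families

/-- A global function killing an invertible module is zero. -/
theorem eq_zero_of_smulMod {X : Scheme.{u}} {w : X.Modules} (hw : PicF.IsInvertible w) (r : Coh.Γtop X)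
    (h : Formal.smulModΓ w r = 0) : r = 0 := by
  rw [Fdesc.LocGen.isInvertible_iff] at hw
  choose U e hxU he using hw
  refine TopCat.Sheaf.eq_of_locally_eq' (⟨X.presheaf, X.IsSheaf⟩ : TopCat.Sheaf CommRingCat X) U ⊤
    (fun i => homOfLE le_top) (fun x _ => ?_) r 0 fun x => ?_
  · exact TopologicalSpace.Opens.mem_iSup.2 ⟨x, hxU x⟩
  · have h1 : (Formal.smulModΓ w r).app (U x) (e x) = 0 := by rw [h]; rfl
    rw [FormalB.ModPow.smulModΓ_app] at h1
    rw [map_zero]
    exact (he x).bijective.1 (h1.trans (zero_smul _ _).symm)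

variable (A : Type u) [CommRing A] (X : Scheme.{u}) [X.Over (Spec (CommRingCat.of A))] {g : ℕ}

theorem toGlobal_injective (hX : IsCurve (X ↘ Spec (CommRingCat.of A)) g) :
    Function.Injective (Coh.toGlobal (X ↘ Spec (CommRingCat.of A))) := by
  have i1 := hX.proper
  have i2 := hX.smooth
  have i3 := hX.conn
  have h1 := Stein.bijective_app (X ↘ Spec (CommRingCat.of A)) ⊤
  have h2 : Function.Injective (Scheme.ΓSpecIso (CommRingCat.of A)).inv.hom :=
    (ConcreteCategory.bijective_of_isIso (Scheme.ΓSpecIso (CommRingCat.of A)).inv).1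
  intro a b hab
  exact h2 (h1.1 hab)

/-- The annihilator of `H^1(X, Ω)` is zero over a Noetherian ring. -/
theorem ann_zero [IsNoetherianRing A] (hX : IsCurve (X ↘ Spec (CommRingCat.of A)) g) (a : A)
    (ha : ∀ x : Coh.HH X (Omega.sheaf (X ↘ Spec (CommRingCat.of A))) 1, a • x = 0) : a = 0 := by
  obtain ⟨w, ⟨e⟩, t, ht⟩ := Trace.exists_represent A X hX
  have i1 := hX.proper
  have i2 := hX.rel
  have hw : PicF.IsInvertible w := by
    have h1 := OmegaFam.isInvertible_omega (X ↘ Spec (CommRingCat.of A))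
    exact Trace.isInvertible_of_iso e.symm h1
  have ha' : ∀ x : Coh.HH X w 1, a • x = 0 := fun x => by
    apply (CurvesA.HHMap.equivOver A e 1).injective
    rw [map_smul, ha, map_zero]
  obtain ⟨φ, -, hφ⟩ := ht 0
  have h1 := hφ (Formal.smulMod A w a) fun x => by
    have h2 : Sheaf.H.map ((SheafOfModules.toSheaf X.ringCatSheaf).map (Formal.smulMod A w a)) 1 x =
      a • x := rfl
    rw [h2, ha', map_zero]
    rfl
  have h2 := hφ 0 fun x => by
    rw [show Sheaf.H.map ((SheafOfModules.toSheaf X.ringCatSheaf).map (0 : w ⟶ w)) 1 x = 0 from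
      CohqB.HSeqMod.hmap_zero_apply 1 x, map_zero]
    rfl
  have h3 : Formal.smulModΓ w (Coh.toGlobal (X ↘ Spec (CommRingCat.of A)) a) = 0 := h1.trans h2.symm
  have h4 := eq_zero_of_smulMod hw _ h3
  exact toGlobal_injective A X hX (h4.trans (map_zero _).symm)

/-- `Ω` on a base change to a quotient field -/
theorem finrank_one (hX : IsCurve (X ↘ Spec (CommRingCat.of A)) g) (K : Type u) [Field K] [Algebra A K] :
    Module.finrank K (K ⊗[A] Coh.HH X (Omega.sheaf (X ↘ Spec (CommRingCat.of A))) 1) = 1 := by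
  have i1 := hX.proper
  have i2 := hX.rel
  obtain ⟨K₀, K₁, _, _, _, _, d, -, -, -, -, hd⟩ := CurveCoh.exists_comp_inv hX _
    (OmegaFam.isInvertible_omega (X ↘ Spec (CommRingCat.of A)))
  let Y : Scheme.{u} := pullback (X ↘ Spec (CommRingCat.of A))
      (Spec.map (CommRingCat.ofHom (algebraMap A K)))
  let iY : Y.Over (Spec (CommRingCat.of K)) := ⟨pullback.snd _ _⟩
  have H : IsPullback (pullback.fst _ _) (Y ↘ Spec (CommRingCat.of K))
      (X ↘ Spec (CommRingCat.of A)) (Spec.map (CommRingCat.ofHom (algebraMap A K))) :=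
    IsPullback.of_hasPullback _ _
  obtain ⟨e⟩ := hd.one K Y _ H (Omega.sheaf (Y ↘ Spec (CommRingCat.of K)))
    ⟨Vancyc.H878.RelOmega.omegaBC H⟩
  rw [← e.finrank_eq]
  exact (CurveCoh.finrank_hh_one_omega K Y (hX.baseChange H)).1

/-- `H^1(X, Ω)` is projective over a Noetherian ring. -/
theorem projective_noeth [IsNoetherianRing A] (hX : IsCurve (X ↘ Spec (CommRingCat.of A)) g) :
    Module.Projective A (Coh.HH X (Omega.sheaf (X ↘ Spec (CommRingCat.of A))) 1) := by
  have i1 := hX.proper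
  have i2 := hX.rel
  obtain ⟨K₀, K₁, _, _, _, _, d, i3, i4, i5, i6, hd⟩ := CurveCoh.exists_comp_inv hX _
    (OmegaFam.isInvertible_omega (X ↘ Spec (CommRingCat.of A)))
  have := hd.finitePresentation
  refine CycProj.projective (ann_zero A X hX) fun m hm => ?_
  let _ := Ideal.Quotient.field m
  exact CycProj.exists_gen_mod m (finrank_one A X hX (A ⧸ m))

/-- `H^1(X, Ω)` is projective of rank one. -/
theorem projective (hX : IsCurve (X ↘ Spec (CommRingCat.of A)) g) :
    Module.Finite A (Coh.HH X (Omega.sheaf (X ↘ Spec (CommRingCat.of A))) 1) ∧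
    Module.Projective A (Coh.HH X (Omega.sheaf (X ↘ Spec (CommRingCat.of A))) 1) ∧
    ∀ p : PrimeSpectrum A,
      Module.rankAtStalk (Coh.HH X (Omega.sheaf (X ↘ Spec (CommRingCat.of A))) 1) p = 1 := by
  have i1 := hX.proper
  have i2 := hX.rel
  obtain ⟨K₀, K₁, _, _, _, _, d, i3, i4, i5, i6, hd⟩ := CurveCoh.exists_comp_inv hX _
    (OmegaFam.isInvertible_omega (X ↘ Spec (CommRingCat.of A)))
  have hfin := hd.finite
  have hproj : Module.Projective A (Coh.HH X (Omega.sheaf (X ↘ Spec (CommRingCat.of A))) 1) := by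
    obtain ⟨B, X₀, f₀, v, H, h0⟩ := Approx.exists_model hX
    let iX : X₀.Over (Spec (CommRingCat.of B.1)) := ⟨f₀⟩
    have hB : Algebra.FiniteType ℤ B.1 := (Subalgebra.fg_iff_finiteType _).1 B.2
    have hN : IsNoetherianRing B.1 := Algebra.FiniteType.isNoetherianRing ℤ B.1
    have h0' : IsCurve (X₀ ↘ Spec (CommRingCat.of B.1)) g := h0
    have i7 := h0'.proper
    have i8 := h0'.rel
    have i9 := h0.proper
    have i10 := h0.rel
    obtain ⟨K₀, K₁, _, _, _, _, d', -, -, -, -, hd'⟩ := CurveCoh.exists_comp_inv h0' _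
      (OmegaFam.isInvertible_omega (X₀ ↘ Spec (CommRingCat.of B.1)))
    have h1 := projective_noeth B.1 X₀ h0'
    obtain ⟨e⟩ := hd'.one A X v H (Omega.sheaf (X ↘ Spec (CommRingCat.of A)))
      ⟨Vancyc.H878.RelOmega.omegaBC H⟩
    exact Module.Projective.of_equiv e.symm
  refine ⟨hfin, hproj, fun p => ?_⟩
  have h2' : Module.Flat A (Coh.HH X (Omega.sheaf (X ↘ Spec (CommRingCat.of A))) 1) :=
    @Module.Flat.of_projective _ _ _ _ _ hproj
  rw [Module.rankAtStalk_eq]
  exact finrank_one A X hX p.asIdeal.ResidueField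

end K333.OmegaOne
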