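import Groth.Agent.Curves.K333.OmegaMain
import Groth.Agent.Curves.K333.HomFree
import Groth.Agent.Flat2F.RepH0
import Groth.Agent.CurvesB.HZero

/-!
# The degree zero cohomology of `Ω` for a smooth curve

`H^0(X, Ω)` is projective over the base ring, and the module representing `B ↦ Γ(X_B, Ω)` is
projective.
-/

set_option autoImplicit false
universe u

open CategoryTheory CategoryTheory.Limits AlgebraicGeometry TensorProduct

namespace K333.OmegaZero

open Groth.Agent K333.Fam K333.HOne

theorem projective_ker {A : Type u} [CommRing A] {K₀ K₁ : Type u} [AddCommGroup K₀] [Module A K₀]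
    [AddCommGroup K₁] [Module A K₁] [Module.Projective A K₀] [Module.Projective A K₁]
    (d : K₀ →ₗ[A] K₁) (h : Module.Projective A (K₁ ⧸ LinearMap.range d)) :
    Module.Projective A (LinearMap.ker d) := by
  obtain ⟨s, hs⟩ := Module.projective_lifting_property (LinearMap.range d).mkQ LinearMap.id
    (Submodule.mkQ_surjective _)
  have hs' : ∀ x, (LinearMap.range d).mkQ (s x) = x := fun x => LinearMap.congr_fun hs x
  have h1 : Module.Projective A (LinearMap.range d) := by
    have hr : ∀ x : K₁, ((LinearMap.id : K₁ →ₗ[A] K₁) - s.comp (LinearMap.range d).mkQ) x ∈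
        LinearMap.range d := by
      intro x
      rw [← Submodule.Quotient.mk_eq_zero]
      change (LinearMap.range d).mkQ (x - s ((LinearMap.range d).mkQ x)) = 0
      rw [map_sub, hs', sub_self]
    refine Module.Projective.of_split (LinearMap.range d).subtype
      ((LinearMap.id - s.comp (LinearMap.range d).mkQ).codRestrict (LinearMap.range d) hr) ?_
    ext x
    have : (LinearMap.range d).mkQ (x : K₁) = 0 := by
      rw [← LinearMap.mem_ker, (LinearMap.range d).ker_mkQ]; exact x.2
    change (x : K₁) - s ((LinearMap.range d).mkQ (x : K₁)) = x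
    rw [this, map_zero, sub_zero]
  obtain ⟨t, ht⟩ := Module.projective_lifting_property d.rangeRestrict LinearMap.id
    d.surjective_rangeRestrict
  have ht' : ∀ x, d (t x) = x := fun x => congrArg Subtype.val (LinearMap.congr_fun ht x)
  have hr : ∀ x : K₀, ((LinearMap.id : K₀ →ₗ[A] K₀) - t.comp d.rangeRestrict) x ∈
      LinearMap.ker d := by
    intro x
    rw [LinearMap.mem_ker]
    change d (x - t (d.rangeRestrict x)) = 0
    rw [map_sub, ht']
    exact sub_self _
  refine Module.Projective.of_split (LinearMap.ker d).subtype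
    ((LinearMap.id - t.comp d.rangeRestrict).codRestrict (LinearMap.ker d) hr) ?_
  ext x
  have : d.rangeRestrict (x : K₀) = 0 := Subtype.ext x.2
  change (x : K₀) - t (d.rangeRestrict (x : K₀)) = x
  rw [this, map_zero, sub_zero]

variable {A : Type u} [CommRing A] {X : Scheme.{u}} [X.Over (Spec (CommRingCat.of A))] {g : ℕ}

theorem projective_zero (hX : IsCurve (X ↘ Spec (CommRingCat.of A)) g) :
    Module.Projective A (Coh.HH X (Omega.sheaf (X ↘ Spec (CommRingCat.of A))) 0) := by
  have i1 := hX.proper
  have i2 := hX.rel
  obtain ⟨K₀, K₁, _, _, _, _, d, i3, i4, i5, i6, hd⟩ := CurveCoh.exists_comp_inv hX _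
    (OmegaFam.isInvertible_omega (X ↘ Spec (CommRingCat.of A)))
  obtain ⟨⟨e0⟩, ⟨e1⟩, -⟩ := hd.self
  have h1 := (OmegaOne.projective A X hX).2.1
  have h2 : Module.Projective A (K₁ ⧸ LinearMap.range d) := Module.Projective.of_equiv e1
  have h3 := projective_ker d h2
  exact Module.Projective.of_equiv e0.symm

end K333.OmegaZero

namespace K333.OmegaZero

open Groth.Agent Groth.Agent.Pi1.H536 K333.Fam

section Local

variable {X S : Scheme.{u}} (f : X ⟶ S)

theorem euler_eq [IsProper f] [SmoothOfRelativeDimension 1 f] [GeometricallyConnected f] (s : S) :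
    PerfAux.eulerChar f (Coh.structureModule X) s =
      1 - (PerfAux.betti f (Coh.structureModule X) s 1 : ℤ) := by
  let _ : (f.fiber s).Over (Spec (CommRingCat.of (S.residueField s))) :=
    ⟨f.fiberToSpecResidueField s⟩
  have H := isPullback_fiber f s
  have q1 : IsProper ((f.fiber s) ↘ (Spec (CommRingCat.of (S.residueField s)))) :=
    MorphismProperty.of_isPullback H inferInstance
  have hsm : Smooth f := SmoothOfRelativeDimension.smooth 1 f
  have q2 : Smooth ((f.fiber s) ↘ (Spec (CommRingCat.of (S.residueField s)))) :=
    MorphismProperty.of_isPullback H inferInstance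
  have q3 : GeometricallyConnected ((f.fiber s) ↘ (Spec (CommRingCat.of (S.residueField s)))) :=
    MorphismProperty.of_isPullback H inferInstance
  have hbc := smoothOfRelativeDimension_isStableUnderBaseChange (n := 1)
  have q4 : SmoothOfRelativeDimension 1 ((f.fiber s) ↘ (Spec (CommRingCat.of (S.residueField s)))) :=
    MorphismProperty.of_isPullback (P := @SmoothOfRelativeDimension 1) H inferInstance
  have q5 : ConnectedSpace ↥(f.fiber s) := GeometricallyConnected.connectedSpace_of_subsingleton
    ((f.fiber s) ↘ (Spec (CommRingCat.of (S.residueField s))))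
  have q6 : topologicalKrullDim ↥(f.fiber s) = 1 := CurveFam.topologicalKrullDim_eq _
    ((f.fiber s) ↘ (Spec (CommRingCat.of (S.residueField s)))) 1
  obtain ⟨c0, c2⟩ := CurveFam.curve_cohomology (S.residueField s) (f.fiber s) q6
  let x₀ : ↥(Spec (CommRingCat.of (S.residueField s))) := IsLocalRing.closedPoint (S.residueField s)
  have hx₀ : (S.fromSpecResidueField s) x₀ = s := S.fromSpecResidueField_apply s _
  have b2 := GenusFam.finrank_eq_betti f (S.residueField s) (S.fromSpecResidueField s) x₀
    (f.fiberι s) H
  rw [hx₀] at b2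
  unfold PerfAux.eulerChar
  refine Locus.finsum_key (fun i => PerfAux.betti f (Coh.structureModule X) s i) ?_ ?_
  · rw [← b2]; exact c0
  · intro i hi
    rw [← b2]
    have := c2 i hi
    exact Module.finrank_zero_of_subsingleton

theorem exists_isCurve [IsProper f] [SmoothOfRelativeDimension 1 f] [GeometricallyConnected f]
    (c : S) (hc : ∀ s : S, s ⤳ c) : ∃ g, IsCurve f g := by
  have hsm : Smooth f := SmoothOfRelativeDimension.smooth 1 f
  refine ⟨PerfAux.betti f (Coh.structureModule X) c 1, inferInstance, inferInstance, inferInstance,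
    fun s => ?_⟩
  have ho : IsOpen {s : S | PerfAux.eulerChar f (Coh.structureModule X) s =
      PerfAux.eulerChar f (Coh.structureModule X) c} :=
    PerfB.Semi.isLocallyConstant_euler f (Coh.structureModule X) (PerfB.StructFlat.isFP_structure)
      (PerfB.StructFlat.isFlatOver_structure f) {PerfAux.eulerChar f (Coh.structureModule X) c}
  have h1 : PerfAux.eulerChar f (Coh.structureModule X) s =
      PerfAux.eulerChar f (Coh.structureModule X) c := (hc s).mem_open ho rfl
  rw [euler_eq f s, euler_eq f c] at h1
  omega

end Local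

section Alg

variable {A : CommRingCat.{u}} (M : Type u) [AddCommGroup M] [Module A M] (I : Ideal A) [I.IsPrime]
  (J : Ideal (Localization.AtPrime I))

/-- the ring map `A → A_I / J` -/
abbrev quo : A ⟶ CommRingCat.of (Localization.AtPrime I ⧸ J) :=
  CommRingCat.ofHom ((Ideal.Quotient.mk J).comp (algebraMap A (Localization.AtPrime I)))

/-- restriction of a linear map on the localization to a semilinear map -/
noncomputable def res (ψ : LocalizedModule I.primeCompl M →ₗ[Localization.AtPrime I] (Localization.AtPrime I ⧸ J)) :
    M →ₛₗ[(quo I J).hom] (Localization.AtPrime I ⧸ J) where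
  toFun m := ψ (LocalizedModule.mkLinearMap I.primeCompl M m)
  map_add' a b := by rw [map_add, map_add]
  map_smul' c m := by
    rw [map_smul, ← algebraMap_smul (Localization.AtPrime I) c, map_smul]
    exact Algebra.smul_def (A := Localization.AtPrime I ⧸ J) _ _

theorem isUnit_end (s : I.primeCompl) :
    IsUnit (algebraMap A (Module.End A (Localization.AtPrime I ⧸ J)) s) := by
  rw [Module.End.isUnit_iff]
  have hu : IsUnit (algebraMap A (Localization.AtPrime I ⧸ J) s) :=
    (IsLocalization.map_units (Localization.AtPrime I) s).map (Ideal.Quotient.mk J)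
  have h1 : ⇑(algebraMap A (Module.End A (Localization.AtPrime I ⧸ J)) s) =
      (algebraMap A (Localization.AtPrime I ⧸ J) s * ·) := funext fun x => by
        change (s : A) • x = _
        exact Algebra.smul_def (R := A) (A := Localization.AtPrime I ⧸ J) (s : A) x
  rw [h1]
  exact IsUnit.isUnit_iff_mulLeft_bijective.mp hu

theorem res_bijective : Function.Bijective (res M I J) := by
  constructor
  · intro ψ ψ' h
    have h1 : (ψ.restrictScalars A) = (ψ'.restrictScalars A) := by
      apply IsLocalizedModule.ext I.primeCompl (LocalizedModule.mkLinearMap I.primeCompl M)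
        (isUnit_end I J)
      ext m
      exact congrArg (fun f => f m) h
    ext x
    exact LinearMap.congr_fun h1 x
  · intro α
    let α' : M →ₗ[A] (Localization.AtPrime I ⧸ J) :=
      { toFun := α
        map_add' := α.map_add
        map_smul' := fun c m => by
          rw [α.map_smulₛₗ]
          exact (Algebra.smul_def _ _).symm }
    let β := IsLocalizedModule.lift I.primeCompl (LocalizedModule.mkLinearMap I.primeCompl M) α'
      (isUnit_end I J)
    refine ⟨β.extendScalarsOfIsLocalization I.primeCompl (Localization.AtPrime I), ?_⟩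
    ext m
    exact IsLocalizedModule.lift_apply I.primeCompl (LocalizedModule.mkLinearMap I.primeCompl M) α'
      (isUnit_end I J) m

end Alg

/-- semilinear maps out of `M` as linear maps out of the localization -/
theorem projective_M {A : CommRingCat.{u}} {X : Scheme.{u}} (f : X ⟶ Spec A)
    [IsProper f] [SmoothOfRelativeDimension 1 f] [GeometricallyConnected f]
    (R : Flat2F.BCSec.RepH0 f (Omega.sheaf f)) : Module.Projective A R.M := by
  have hfp := R.fp
  refine Module.projective_of_localization_maximal fun I hI => ?_
  let Ap := Localization.AtPrime I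
  suffices h : Module.Free Ap (LocalizedModule I.primeCompl R.M) from inferInstance
  refine Groth.Agent.Curves.K333.HomFree.free fun J => ?_
  by_cases hJ : J = ⊤
  · subst hJ
    have : Subsingleton (Ap ⧸ (⊤ : Ideal Ap)) := Ideal.Quotient.subsingleton_iff.mpr rfl
    infer_instance
  have hIp := hI.isPrime
  let B : CommRingCat.{u} := CommRingCat.of (Ap ⧸ J)
  let φ : A ⟶ B := quo I J
  let a := pullback.fst f (Spec.map φ)
  let f' := pullback.snd f (Spec.map φ)
  have H : IsPullback a f' f (Spec.map φ) := IsPullback.of_hasPullback _ _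
  have p1 : IsProper f' := MorphismProperty.of_isPullback H inferInstance
  have hbc := smoothOfRelativeDimension_isStableUnderBaseChange (n := 1)
  have p2 : SmoothOfRelativeDimension 1 f' :=
    MorphismProperty.of_isPullback (P := @SmoothOfRelativeDimension 1) H inferInstance
  have p3 : GeometricallyConnected f' := MorphismProperty.of_isPullback H inferInstance
  have hnt : Nontrivial (Ap ⧸ J) := Ideal.Quotient.nontrivial_iff.mpr hJ
  have hloc : IsLocalRing (Ap ⧸ J) :=
    IsLocalRing.of_surjective' (Ideal.Quotient.mk J) Ideal.Quotient.mk_surjective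
  have hloc' : IsLocalRing B := hloc
  obtain ⟨g, hg⟩ := exists_isCurve f' (IsLocalRing.closedPoint B) (fun s => by
    exact IsLocalRing.specializes_closedPoint s)
  let iX : (pullback f (Spec.map φ)).Over (Spec (CommRingCat.of (Ap ⧸ J))) := ⟨f'⟩
  have hproj : Module.Projective (Ap ⧸ J)
      (Coh.HH (pullback f (Spec.map φ)) (Omega.sheaf f') 0) := projective_zero (A := Ap ⧸ J) (X := pullback f (Spec.map φ)) (g := g) hg
  let e := CurvesB.HZero.equivLin (Ap ⧸ J) (Omega.sheaf f')
  let i : (Scheme.Modules.pullback a).obj (Omega.sheaf f) ≅ Omega.sheaf f' :=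
    Vancyc.H878.RelOmega.omegaBC H
  let F : (LocalizedModule I.primeCompl R.M →ₗ[Ap] (Ap ⧸ J)) →
      Coh.HH (pullback f (Spec.map φ)) (Omega.sheaf f') 0 :=
    fun ψ => e.symm (i.hom.app ⊤ (R.θ H (res R.M I J ψ)))
  have hF : Function.Bijective F := by
    refine e.symm.bijective.comp ?_
    refine Function.Bijective.comp ?_ ((R.bij H).comp (res_bijective R.M I J))
    exact Flat2F.RepH0Desc.app_bijective i ⊤
  have hadd : ∀ ψ ψ', F (ψ + ψ') = F ψ + F ψ' := by
    intro ψ ψ'
    have h1 : res R.M I J (ψ + ψ') = res R.M I J ψ + res R.M I J ψ' := rfl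
    change e.symm _ = e.symm _ + e.symm _
    rw [h1, R.add, map_add, map_add]
  have hsmul : ∀ (c : Ap ⧸ J) ψ, F (c • ψ) = c • F ψ := by
    intro c ψ
    have h1 : res R.M I J (c • ψ) = (c : B) • res R.M I J ψ := rfl
    change e.symm _ = c • e.symm _
    rw [h1, R.smul]
    refine (LinearEquiv.symm_apply_eq e).mpr ?_
    refine Eq.trans ?_ (e.map_smul c _).symm
    rw [e.apply_symm_apply]
    exact Scheme.Modules.Hom.app_smul i.hom _ _
  let E : (LocalizedModule I.primeCompl R.M →ₗ[Ap] (Ap ⧸ J)) ≃ₗ[Ap ⧸ J]
      Coh.HH (pullback f (Spec.map φ)) (Omega.sheaf f') 0 :=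
    LinearEquiv.ofBijective { toFun := F, map_add' := hadd, map_smul' := hsmul } hF
  exact Module.Projective.of_equiv E.symm

end K333.OmegaZero
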