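import Groth.Agent.Curves.K333.HOne
import Groth.Agent.Curves.K333.Families
import Groth.Agent.S1027
import Groth.Agent.Dcoh.DerSch
import Groth.Agent.Dcoh.FTFP

/-!
# Direct images of modules without `H^q`, `q ≥ 1`, on the fibres, in families of curves
-/

set_option autoImplicit false
universe u
open CategoryTheory CategoryTheory.Limits AlgebraicGeometry TensorProduct

namespace K333.PushFree

open Groth.Agent K333.HOne K333.Families

section Local

variable {A : Type u} [CommRing A] {X : Scheme.{u}} [X.Over (Spec (CommRingCat.of A))]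
  {F : X.Modules} {K₀ K₁ : Type u} [AddCommGroup K₀] [Module A K₀]
    [AddCommGroup K₁] [Module A K₁] {d : K₀ →ₗ[A] K₁}

/-- `H^1(X, F) = 0` if it vanishes on the closed fibres. -/
theorem hh_one_zero [Module.Finite A K₁] (h : Comp A X F d)
    (hv : ∀ (m : Ideal A) [m.IsMaximal] (Y : Scheme.{u}) [Y.Over (Spec (CommRingCat.of (A ⧸ m)))]
      (j : Y ⟶ X) (_ : IsPullback j (Y ↘ Spec (CommRingCat.of (A ⧸ m)))
      (X ↘ Spec (CommRingCat.of A)) (Spec.map (CommRingCat.ofHom (Ideal.Quotient.mk m)))),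
      Subsingleton (Coh.HH Y ((Scheme.Modules.pullback j).obj F) 1)) :
    Subsingleton (Coh.HH X F 1) := by
  have hfin := h.finite
  have hs : Function.Surjective (0 : A →ₗ[A] Coh.HH X F 1) := by
    apply CurvesB.FreeHOne.surjective_of_forall_maximal
    intro m hm
    let Y : Scheme.{u} := pullback (X ↘ Spec (CommRingCat.of A))
      (Spec.map (CommRingCat.ofHom (Ideal.Quotient.mk m)))
    let iY : Y.Over (Spec (CommRingCat.of (A ⧸ m))) := ⟨pullback.snd _ _⟩
    have H : IsPullback (pullback.fst _ _) (Y ↘ Spec (CommRingCat.of (A ⧸ m)))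
        (X ↘ Spec (CommRingCat.of A)) (Spec.map (CommRingCat.ofHom (Ideal.Quotient.mk m))) :=
      IsPullback.of_hasPullback _ _
    have h1 := hv m Y _ H
    obtain ⟨e⟩ := h.one (A ⧸ m) Y _ H _ ⟨Iso.refl _⟩
    have h2 : Subsingleton ((A ⧸ m) ⊗[A] Coh.HH X F 1) := e.symm.toEquiv.subsingleton
    have h3 : Subsingleton (Coh.HH X F 1 ⊗[A] (A ⧸ m)) :=
      (TensorProduct.comm A (A ⧸ m) (Coh.HH X F 1)).symm.toEquiv.subsingleton
    intro x
    exact ⟨0, Subsingleton.elim _ _⟩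
  refine subsingleton_of_forall_eq 0 fun x => ?_
  obtain ⟨y, hy⟩ := hs x
  rw [← hy, LinearMap.zero_apply]

end Local

variable {X S : Scheme.{u}} (f : X ⟶ S)

/-- No higher cohomology on the base changes to fields. -/
def NoH (F : X.Modules) : Prop :=
  ∀ (K : Type u) [Field K] (t : Spec (CommRingCat.of K) ⟶ S) (Y : Scheme.{u})
    [Y.Over (Spec (CommRingCat.of K))] (j : Y ⟶ X), IsPullback j (Y ↘ Spec (CommRingCat.of K)) f t →
    ∀ q : ℕ, 1 ≤ q → Subsingleton (Coh.HH Y ((Scheme.Modules.pullback j).obj F) q)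

variable {f}

/-- Over an affine base: `H^q(X, F) = 0` for `q ≥ 1`. -/
theorem subsingleton_affine {A : Type u} [CommRing A] {X : Scheme.{u}} [X.Over (Spec (CommRingCat.of A))]
    [IsProper (X ↘ Spec (CommRingCat.of A))] [LocallyOfFinitePresentation (X ↘ Spec (CommRingCat.of A))]
    (F : X.Modules) (hF : CohB1.IsFP F) (hfl : FlatMod.IsFlatOver (X ↘ Spec (CommRingCat.of A)) F)
    (h : NoH (X ↘ Spec (CommRingCat.of A)) F) (q : ℕ) (hq : 1 ≤ q) : Subsingleton (Coh.HH X F q) := by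
  have hv : TwoTerm.FibVan A X F := fun m hm Y _ j H q hq => by
    let _ := Ideal.Quotient.field m
    exact h (A ⧸ m) _ Y j H q (by omega)
  obtain ⟨K₀, K₁, _, _, _, _, d, i1, i2, i3, i4, hd⟩ := TwoTerm.exists_twoTerm A X F hF hfl hv
  have hd' : Comp A X F d := hd
  rcases Nat.lt_or_ge 1 q with h1 | h1
  · exact hd'.self.2.2 q h1
  · obtain rfl : q = 1 := by omega
    exact hh_one_zero hd' fun m hm Y _ j H => by
      let _ := Ideal.Quotient.field m
      exact h (A ⧸ m) _ Y j H 1 le_rfl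

theorem noH_restrict {F : X.Modules} (h : NoH f F) {V : S.Opens} (hV : IsAffineOpen V) :
    NoH (Ega3B.PackageAsm.strMap f hV) (F.restrict (f ⁻¹ᵁ V).ι) := by
  intro K _ t Y _ j H q hq
  have h1 := h K (t ≫ hV.fromSpec) Y (j ≫ (f ⁻¹ᵁ V).ι) (H.paste_horiz (isPullback_strMap f hV)) q hq
  let e : (Scheme.Modules.pullback j).obj (F.restrict (f ⁻¹ᵁ V).ι) ≅
      (Scheme.Modules.pullback (j ≫ (f ⁻¹ᵁ V).ι)).obj F :=
    (Scheme.Modules.pullback j).mapIso ((Scheme.Modules.restrictFunctorIsoPullback _).app F) ≪≫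
      (Scheme.Modules.pullbackComp j (f ⁻¹ᵁ V).ι).app F
  exact (Fga.EulerIso.HHequiv K e q).toEquiv.subsingleton

/-- `R^q f_* F = 0` for `q ≥ 1` and `f_* F` is finite locally free. -/
theorem main [IsProper f] [LocallyOfFinitePresentation f] [HasInjectiveResolutions X.Modules]
    (F : X.Modules) (hF : CohB1.IsFP F) (hfl : FlatMod.IsFlatOver f F) (h : NoH f F) :
    (∀ q : ℕ, 1 ≤ q → IsZero ((Coh.Rpush f q).obj F)) ∧ FlatMod.IsFinLocFree ((Coh.push f).obj F) := by
  have hq : Coh.IsQCoh F := Models2.FPCoh.isQCoh_of_isFP hF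
  have h1 : ∀ q : ℕ, 1 ≤ q → IsZero ((Coh.Rpush f q).obj F) := by
    intro q hq1
    refine CurvesB.NodalRpush.isZero_of_sections _ (CohqA.RelCoh.isQCoh_Rpush f F hq q) fun V hV => ?_
    let iO : (f ⁻¹ᵁ V).toScheme.Over (Spec (CommRingCat.of Γ(S, V))) := ⟨Ega3B.PackageAsm.strMap f hV⟩
    have i1 : LocallyOfFinitePresentation ((f ⁻¹ᵁ V).toScheme ↘ Spec (CommRingCat.of Γ(S, V))) :=
      inferInstanceAs (LocallyOfFinitePresentation ((f ∣_ V) ≫ hV.isoSpec.hom))
    have i2 : IsProper ((f ⁻¹ᵁ V).toScheme ↘ Spec (CommRingCat.of Γ(S, V))) :=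
      inferInstanceAs (IsProper ((f ∣_ V) ≫ hV.isoSpec.hom))
    have hFV : CohB1.IsFP (F.restrict (f ⁻¹ᵁ V).ι) := PerfC.FPSections.isFP_restrict _ hF
    have hflV : FlatMod.IsFlatOver ((f ⁻¹ᵁ V).toScheme ↘ Spec (CommRingCat.of Γ(S, V)))
        (F.restrict (f ⁻¹ᵁ V).ι) := by
      refine Ega3B.FlatRestrict.isFlatOver_restrict f _ (f ⁻¹ᵁ V).ι hV.fromSpec ?_ F hfl
      exact (isPullback_strMap f hV).w
    have h2 := subsingleton_affine (A := Γ(S, V)) (X := (f ⁻¹ᵁ V).toScheme) (F.restrict (f ⁻¹ᵁ V).ι)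
      hFV hflV (noH_restrict h hV) q hq1
    obtain ⟨e, -⟩ := Ega3B.RpushAff.exists_equiv_toGlobal f F hq hV q
    exact e.toEquiv.subsingleton
  exact ⟨h1, S1027.result f F hF hfl (PerfB.StructFlat.isProperOver_support f hF) (fun i hi => h1 i hi)⟩

end K333.PushFree
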