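import Groth.Agent.Curves.K333.VACond
import Groth.Agent.Curves.K333.PushFree
import Groth.Agent.Ega3B.ChiFib
import Groth.Agent.S5728

/-!
# Curves of genus `≥ 2` are projective
-/

set_option autoImplicit false
universe u
open CategoryTheory CategoryTheory.Limits AlgebraicGeometry

namespace K333.ProjCond

open Groth.Agent K333.Fam K333.OmegaFam

/-- powers of `Ω` have no `H^q`, `q ≥ 1`, on the fibres -/
theorem noH {X S : Scheme.{u}} {f : X ⟶ S} {g : ℕ} (hf : IsCurve f g)
    (hg : 2 ≤ g) (n : ℕ) (hn : 3 ≤ n) : PushFree.NoH f (CohB1.tensorPow (Omega.sheaf f) n) := by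
  intro K _ t Y _ j H q hq
  have hc : IsCurve (Y ↘ (Spec (CommRingCat.of K))) g := hf.baseChange H
  obtain ⟨e⟩ := nonempty_bc H hf n
  rcases Nat.lt_or_ge 1 q with h1 | h1
  · exact subsingleton_two K Y hc _ q h1
  · obtain rfl : q = 1 := by omega
    have h2 := (FibreVA.omega_pow K Y hc hg n hn).2
    exact (Fga.EulerIso.HHequiv K e 1).toEquiv.subsingleton

theorem main {X S : Scheme.{u}} {f : X ⟶ S} {g : ℕ} (hf : IsCurve f g) (hg : 2 ≤ g) :
    RelProj.IsProjective f := by
  have h1 := hf.proper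
  have h2 := hf.rel
  have h3 := hf.smooth
  have h4 : HasInjectiveResolutions X.Modules := Dcoh.DerSch.hasInjectiveResolutions X
  have hinv := isInvertible_pow hf 3
  have h5 := (PushFree.main _ (Ega3B.ChiFib.isFP_of_isInvertible hinv)
    (Ega3B.ChiFib.isFlatOver_of_isInvertible f hinv) (noH hf hg 3 le_rfl)).2
  exact Groth.Agent.S5728.result f _ hinv (VACond.main hf hg 3 le_rfl)
    (Dcoh.FTFP.isFT_of_epi_finLocFree h5 (𝟙 _))

end K333.ProjCond
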