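import Groth.Agent.Curves.K333.OmegaZero
import Groth.Agent.Curves.K333.Locus
import Groth.Agent.Coherent.K54.PushBC

/-!
# `π_* Ω` for a family of smooth curves

* `global`: degree-0 base change and local freeness of `π_* F` when the data `K` near every point has `K.O 1` projective.
* `main`: for `π` proper smooth of relative dimension one with geometrically connected fibres, `π_* Ω` is finite
  locally free and commutes with base change.
-/

set_option autoImplicit false
universe u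

open AlgebraicGeometry CategoryTheory CategoryTheory.Limits Scheme.Modules TensorProduct

namespace K333.PushOmega

open Groth.Agent Groth.Agent.CohqA.PullbackUniv Groth.Agent.CohqA.PullbackAffine
  Groth.Agent.CohqA.PullbackSections Groth.Agent.CohqA.AffineBaseChange
  Groth.Agent.CohqA.BaseChangeMod Groth.Agent.CohqA.PullbackQCoh Groth.Agent.Ega3B K55 K55.Pack K55.KerAlg
  K54.PushSec K54.PushBC

section Alg

variable {A : Type u} [CommRing A] (K : CxData A)

theorem projective_O (h : ∀ p, 2 ≤ p → Subsingleton (K.H p)) (p : ℕ) (hp : 2 ≤ p) :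
    Module.Projective A (K.O p) := by
  obtain ⟨N, hN⟩ := K.bound
  have key : ∀ n p : ℕ, 2 ≤ p → N ≤ p + n → Module.Projective A (K.O p) := by
    intro n
    induction n with
    | zero =>
      intro p _ hNp
      have := hN p (by omega)
      infer_instance
    | succ n ih =>
      intro p hp hNp
      have h1 := ih (p + 1) (by omega) (by omega)
      have h2 := h p hp
      exact (projective_ker_iff (K.exact p) (K.surj p)).1 inferInstance
  exact key N p hp (by omega)

theorem projective_O_one (h : ∀ p, 2 ≤ p → Subsingleton (K.H p)) (h1 : Module.Projective A (K.H 1)) :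
    Module.Projective A (K.O 1) := by
  have h2 := projective_O K h 2 le_rfl
  have h2' : Module.Projective A (K.O (1 + 1)) := h2
  exact (projective_ker_iff (K.exact 1) (K.surj 1)).1 h1

end Alg

section Glob

variable {X Y : Scheme.{u}} (π : X ⟶ Y) (F : X.Modules)

/-- the data near `y` has `K.O 1` projective -/
def Good (y : Y) : Prop :=
  ∃ (V : Y.Opens) (_ : IsAffineOpen V) (K : CxData Γ(Y, V)), y ∈ V ∧ SecData π F K ∧
    Module.Projective Γ(Y, V) (K.O 1)

theorem isFinLocFree [QuasiCompact π] [QuasiSeparated π] (hF : Coh.IsQCoh F) (h : ∀ y, Good π F y) :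
    FlatMod.IsFinLocFree ((pushforward π).obj F) := by
  refine Dcoh.FinLocFree.isFinLocFree_of_local fun y => ?_
  obtain ⟨V, hV, K, hyV, hK, hp⟩ := h y
  have hy : hV.primeIdealOf ⟨y, hyV⟩ ∈ Module.freeLocus Γ(Y, V) (K.O 1) := by
    rw [Module.freeLocus_eq_univ_iff.2 hp]; trivial
  obtain ⟨U, hyU, hU, -⟩ := exists_nhd π F hF hV K hK ⟨y, hyV⟩ hy
  exact ⟨U.toScheme, U.ι, inferInstance, by simpa using hyU, hU⟩

theorem isUniv [QuasiCompact π] [QuasiSeparated π] (hF : Coh.IsQCoh F) (hG : ∀ y, Good π F y)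
    {X' Z : Scheme.{u}} (f : X' ⟶ X) (ζ : X' ⟶ Z) (α : Z ⟶ Y) (h : IsPullback f ζ π α) :
    IsUniv α (pushSquare π α f ζ h.w (pbUnit f F)) := by
  have hM : ((pushforward π).obj F).IsQuasicoherent := Ega1.QcqsPush.isQCoh_pushforward π F hF
  have hF' : F.IsQuasicoherent := hF
  have i1 : QuasiCompact ζ := MorphismProperty.of_isPullback h inferInstance
  have i2 : QuasiSeparated ζ := MorphismProperty.of_isPullback h inferInstance
  have hN : ((pushforward ζ).obj ((Scheme.Modules.pullback f).obj F)).IsQuasicoherent :=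
    Ega1.QcqsPush.isQCoh_pushforward _ _
      (isQuasicoherent_of_isUniv f (pbUnit f F) (isUniv_pbUnit f F))
  refine isUniv_of_isBC_cover α _ fun z => ?_
  obtain ⟨V, hV, K, hyV, ⟨t₀, ht⟩, hp⟩ := hG (α z)
  have hg : ∀ q : PrimeSpectrum Γ(Y, V), (1 : Γ(Y, V)) ∉ q.asIdeal →
      q ∈ Module.freeLocus Γ(Y, V) (K.O 1) := by
    intro q _
    rw [Module.freeLocus_eq_univ_iff.2 hp]; trivial
  have hb1 : Y.basicOpen (1 : Γ(Y, V)) = V := Y.basicOpen_of_isUnit isUnit_one
  obtain ⟨_, ⟨V', hV', rfl⟩, hzV, hVU⟩ := Z.isBasis_affineOpens.exists_subset_of_mem_open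
    (show z ∈ (α ⁻¹ᵁ Y.basicOpen (1 : Γ(Y, V)) : Set Z) by
      change α z ∈ Y.basicOpen (1 : Γ(Y, V)); rw [hb1]; exact hyV)
    (α ⁻¹ᵁ Y.basicOpen (1 : Γ(Y, V))).isOpen
  have hle : V' ≤ α ⁻¹ᵁ (Y.basicOpen (1 : Γ(Y, V))) := hVU
  have e : V' ≤ α ⁻¹ᵁ V := hle.trans (α.preimage_mono (Y.basicOpen_le 1))
  have hb := isBaseChange_res hV K 1 hg α e hle
  have ht' := ht f ζ α h V' hV' e
  refine ⟨V, V', hV, hV', e, hzV, ?_⟩
  exact isBC_of_res' (α.appLE V V' e).hom K _ t₀ ht' hb

end Glob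

section Curve

variable {C B : Scheme.{u}} (π : C ⟶ B) [IsProper π] [SmoothOfRelativeDimension 1 π]
  [GeometricallyConnected π]

/-- near every point the curve has constant genus -/
theorem exists_isCurve_nhd (y : B) : ∃ (V : B.Opens) (hV : IsAffineOpen V) (g : ℕ), y ∈ V ∧
    Fam.IsCurve (PackageAsm.strMap π hV) g := by
  have hsm : Smooth π := SmoothOfRelativeDimension.smooth 1 π
  have H := Fam.isPullback_fiber π y
  have p1 : IsProper (π.fiberToSpecResidueField y) := MorphismProperty.of_isPullback H inferInstance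
  have hbc := smoothOfRelativeDimension_isStableUnderBaseChange (n := 1)
  have p2 : SmoothOfRelativeDimension 1 (π.fiberToSpecResidueField y) :=
    MorphismProperty.of_isPullback (P := @SmoothOfRelativeDimension 1) H inferInstance
  have p3 : GeometricallyConnected (π.fiberToSpecResidueField y) :=
    MorphismProperty.of_isPullback H inferInstance
  obtain ⟨g, hg⟩ := OmegaZero.exists_isCurve (π.fiberToSpecResidueField y)
    (IsLocalRing.closedPoint (B.residueField y))
    (fun s => IsLocalRing.specializes_closedPoint s)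
  obtain ⟨W, hW⟩ := Locus.exists_locus π g
  have hyW : y ∈ W := by
    have h1 := (hW _ _ _ _ _ H).2 hg (IsLocalRing.closedPoint (B.residueField y))
    have h2 : (B.fromSpecResidueField y) (IsLocalRing.closedPoint (B.residueField y)) = y :=
      B.fromSpecResidueField_apply y _
    exact h2 ▸ h1
  obtain ⟨_, ⟨V, hV, rfl⟩, hyV, hVW⟩ := B.isBasis_affineOpens.exists_subset_of_mem_open
    (show y ∈ (W : Set B) from hyW) W.isOpen
  refine ⟨V, hV, g, hyV, ?_⟩
  refine (hW _ _ _ _ _ (Families.isPullback_strMap π hV)).1 fun s' => hVW ?_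
  have h2 := hV.range_fromSpec ▸ Set.mem_range_self s'
  exact h2

theorem good (y : B) : Good π (Omega.sheaf π) y := by
  obtain ⟨V, hV, g, hyV, hg⟩ := exists_isCurve_nhd π y
  have hinv : PicF.IsInvertible (Omega.sheaf π) := OmegaFam.isInvertible_omega π
  have hsm : Smooth π := SmoothOfRelativeDimension.smooth 1 π
  obtain ⟨K, hK⟩ := exists_compData π (Omega.sheaf π) (ChiFib.isFP_of_isInvertible hinv)
    (ChiFib.isFlatOver_of_isInvertible π hinv) hV
  refine ⟨V, hV, K, hyV, secData π _ hV K hK, ?_⟩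
  let iO : (π ⁻¹ᵁ V).toScheme.Over (Spec (CommRingCat.of Γ(B, V))) := ⟨PackageAsm.strMap π hV⟩
  have hg' : Fam.IsCurve ((π ⁻¹ᵁ V).toScheme ↘ Spec (CommRingCat.of Γ(B, V))) g := hg
  have i9 := hg'.proper
  have i10 := hg'.rel
  obtain ⟨K₀, K₁, _, _, _, _, d, -, -, -, -, hd⟩ := CurveCoh.exists_comp_inv hg' _
    (OmegaFam.isInvertible_omega ((π ⁻¹ᵁ V).toScheme ↘ Spec (CommRingCat.of Γ(B, V))))
  let e1 : (Omega.sheaf π).restrict (π ⁻¹ᵁ V).ι ≅
      Omega.sheaf ((π ⁻¹ᵁ V).toScheme ↘ Spec (CommRingCat.of Γ(B, V))) :=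
    (Scheme.Modules.restrictFunctorIsoPullback (π ⁻¹ᵁ V).ι).app _ ≪≫
      Vancyc.H878.RelOmega.omegaBC (Families.isPullback_strMap π hV)
  let e2 : (Scheme.Modules.pullback (𝟙 (π ⁻¹ᵁ V).toScheme)).obj
      (Omega.sheaf ((π ⁻¹ᵁ V).toScheme ↘ Spec (CommRingCat.of Γ(B, V)))) ≅
      (Omega.sheaf π).restrict (π ⁻¹ᵁ V).ι := (Scheme.Modules.pullbackId _).app _ ≪≫ e1.symm
  obtain ⟨-, -, h2⟩ := hd.alg Γ(B, V) _ (𝟙 _) HOne.isPullback_self _ ⟨e2⟩
  obtain ⟨e3⟩ := hd.one Γ(B, V) _ (𝟙 _) HOne.isPullback_self _ ⟨e2⟩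
  have h3 := (OmegaOne.projective Γ(B, V) _ hg').2.1
  have h4 : Module.Projective Γ(B, V) (Coh.HH (π ⁻¹ᵁ V).toScheme
      ((Omega.sheaf π).restrict (π ⁻¹ᵁ V).ι) 1) := Module.Projective.of_equiv e3.symm
  refine projective_O_one K (fun p hp => ?_) ?_
  · obtain ⟨θ, -⟩ := hK p
    have := h2 p hp
    exact θ.symm.toEquiv.subsingleton
  · obtain ⟨θ, hθ⟩ := hK 1
    let E : Coh.HH (π ⁻¹ᵁ V).toScheme ((Omega.sheaf π).restrict (π ⁻¹ᵁ V).ι) 1 ≃ₗ[Γ(B, V)] K.H 1 :=
      { θ with map_smul' := fun a x => hθ.smul a x }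
    exact Module.Projective.of_equiv E

theorem main :
    FlatMod.IsFinLocFree ((pushforward π).obj (Omega.sheaf π)) ∧
      ∀ ⦃C' B' : Scheme.{u}⦄ (f : C' ⟶ C) (ζ : C' ⟶ B') (α : B' ⟶ B) (h : IsPullback f ζ π α),
        IsIso (((pullbackPushforwardAdjunction α).homEquiv ((pushforward π).obj (Omega.sheaf π))
            ((pushforward ζ).obj ((Scheme.Modules.pullback f).obj (Omega.sheaf π)))).symm
          ((pushforward π).map ((pullbackPushforwardAdjunction f).unit.app (Omega.sheaf π)) ≫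
            (pushforwardComp f π).hom.app ((Scheme.Modules.pullback f).obj (Omega.sheaf π)) ≫
            (pushforwardCongr h.w).hom.app ((Scheme.Modules.pullback f).obj (Omega.sheaf π)) ≫
            (pushforwardComp ζ α).inv.app ((Scheme.Modules.pullback f).obj (Omega.sheaf π)))) := by
  have hinv : PicF.IsInvertible (Omega.sheaf π) := OmegaFam.isInvertible_omega π
  have hF : Coh.IsQCoh (Omega.sheaf π) := Models2.FPCoh.isQCoh_of_isFP (ChiFib.isFP_of_isInvertible hinv)
  exact ⟨isFinLocFree π _ hF (good π), fun C' B' f ζ α h =>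
    (isUniv_iff_isIso α _).1 (isUniv π _ hF (good π) f ζ α h)⟩

end Curve

end K333.PushOmega
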