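import Groth.Agent.S3635
import Groth.Agent.S1766
import Groth.Agent.S0998
import Groth.Agent.LoccohB.TopBridge540
import Groth.Agent.LoccohB.AdjD
import Groth.Agent.PerfC.RpushSingle
import Groth.Agent.PerfA.QCohD
import Groth.Agent.Sga67.TensorOps
import Groth.Agent.Curves.K333.CurveCoh
import Groth.Agent.Curves.K333.Stein

/-!
# Duality for smooth curves over a Noetherian ring

`exists_represent`: a module `w ≅ Ω` and `t : H^1(X, w) → A` such that every linear form on `H^1(X, w)`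
is `t ∘ H^1(φ)` for exactly one endomorphism `φ` of `w`.
-/

set_option autoImplicit false
universe u
open CategoryTheory CategoryTheory.Limits AlgebraicGeometry
attribute [local instance] HasDerivedCategory.standard

namespace K333.Trace

open Groth.Agent K333.Fam DerivedCategory

theorem isInvertible_of_iso {X : Scheme.{u}} {M N : X.Modules} (e : M ≅ N) (h : PicF.IsInvertible M) :
    PicF.IsInvertible N := by
  intro x
  obtain ⟨U, hx, ⟨f⟩⟩ := h x
  exact ⟨U, hx, ⟨(Scheme.Modules.restrictFunctor U.ι).mapIso e.symm ≪≫ f⟩⟩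

theorem isLE_rpush_single {X S : Scheme.{u}} (f : X ⟶ S) [DCoh.HasRpush f] [HasInjectiveResolutions X.Modules]
    (F : X.Modules) (d : ℕ)
    (h : ∀ p : ℕ, d < p → IsZero ((Coh.Rpush f p).obj F)) (j : ℤ) :
    ((DCoh.Rpush f).obj ((singleFunctor X.Modules j).obj F)).IsLE (j + d) := by
  rw [isLE_iff]
  intro i hi
  obtain ⟨p, hp⟩ : ∃ p : ℕ, i - j = (p : ℤ) := ⟨(i - j).toNat, by lia⟩
  refine (h p (by lia)).of_iso ?_
  exact PerfC.RpushSingle.isoSingle f F j i (p : ℤ) (by lia) ≪≫ PerfC.RpushSingle.iso f p F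

/-- Global sections of the structure sheaf of `Spec A`. -/
noncomputable def eV (A : Type u) [CommRing A] : (LoccohB.TopBridge540.ΓA A).obj
    (DCoh.HD (DCoh.inD _ (Coh.structureModule (Spec (CommRingCat.of A)))) 0) ≅ ModuleCat.of A A :=
  (LoccohB.TopBridge540.ΓA A).mapIso ((singleFunctorCompHomologyFunctorIso _ 0).app _) ≪≫
    (tilde.isoTop (R := CommRingCat.of A) (ModuleCat.of (CommRingCat.of A) A)).symm

theorem exists_represent (A : Type u) [CommRing A] [IsNoetherianRing A] (X : Scheme.{u})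
    [X.Over (Spec (CommRingCat.of A))] {g : ℕ} (hX : IsCurve (X ↘ Spec (CommRingCat.of A)) g) :
    ∃ (w : X.Modules) (_ : Nonempty (w ≅ Omega.sheaf (X ↘ Spec (CommRingCat.of A))))
      (t : Coh.HH X w 1 →ₗ[A] A), ∀ ψ : Coh.HH X w 1 →ₗ[A] A, ∃! φ : w ⟶ w, ∀ x : Coh.HH X w 1,
        ψ x = t (Sheaf.H.map ((SheafOfModules.toSheaf X.ringCatSheaf).map φ) 1 x) := by
  let f := X ↘ Spec (CommRingCat.of A)
  have : IsNoetherianRing (CommRingCat.of A) := inferInstanceAs (IsNoetherianRing A)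
  have hS : IsNoetherian (Spec (CommRingCat.of A)) := inferInstance
  have i1 : IsProper f := hX.proper
  have i2 : SmoothOfRelativeDimension 1 f := hX.rel
  have i3 : Smooth f := hX.smooth
  have hlN : IsLocallyNoetherian X := LocallyOfFiniteType.isLocallyNoetherian f
  have hcX : CompactSpace X := QuasiCompact.compactSpace_of_compactSpace f
  have hN : IsNoetherian X := {}
  have iI : HasInjectiveResolutions X.Modules := Dcoh.DerSch.hasInjectiveResolutions _
  have hR : DCoh.HasRpush f := Dcoh.DerSch.hasRpush f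
  have hf : DCoh.RpushPreservesQCoh f := fun K hK => S0998.result f K hK
  have hL : (DCoh.RpushQ f hf).IsLeftAdjoint := S1766.result X (Spec (CommRingCat.of A)) f hf
  let a := (DCoh.RpushQ f hf).rightAdjoint
  let adj : DCoh.RpushQ f hf ⊣ a := Adjunction.ofIsLeftAdjoint _
  let O : DCoh.DQCoh (Spec (CommRingCat.of A)) :=
    ⟨DCoh.inD _ (Coh.structureModule (Spec (CommRingCat.of A))),
      PerfA.QCohD.isQCohD_inD _ (CurvesC.UnitCoh.isQCoh_unit _)⟩
  obtain ⟨e⟩ := S3635.result (Spec (CommRingCat.of A)) X 1 f hf a adj O ⟨Iso.refl _⟩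
    (Omega.sheaf f) (Sga67.TensorOps.isExtPow_one _)
  have hΩ : PicF.IsInvertible (Omega.sheaf f) := OmegaFam.isInvertible_omega f
  have hΩq : Coh.IsQCoh (Omega.sheaf f) := Ega2.QCohLocal.isQCoh_of_isInvertible hΩ
  have hGE00 : (DCoh.inD X (Omega.sheaf f)).IsGE 0 := inferInstanceAs
    (((singleFunctor X.Modules 0).obj _).IsGE 0)
  have hGE1 : ((DCoh.inD X (Omega.sheaf f))⟦((1 : ℕ) : ℤ)⟧).IsGE (-1) :=
    TStructure.t.isGE_shift (DCoh.inD X (Omega.sheaf f)) 0 ((1 : ℕ) : ℤ) (-1) (by norm_num)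
  have hGE : (a.obj O).obj.IsGE (-1) :=
    TStructure.t.isGE_of_iso e.symm (-1)
  have hGE0 : O.obj.IsGE 0 := inferInstanceAs
    (((singleFunctor (Spec (CommRingCat.of A)).Modules 0).obj _).IsGE 0)
  let w : X.Modules := DCoh.HD (a.obj O).obj (-1)
  have ew : Nonempty (w ≅ Omega.sheaf f) :=
    ⟨(homologyFunctor X.Modules (-1)).mapIso e ≪≫
      ((homologyFunctor X.Modules 0).shiftIso ((1 : ℕ) : ℤ) (-1) 0 (by norm_num)).app _ ≪≫
      (singleFunctorCompHomologyFunctorIso X.Modules 0).app (Omega.sheaf f)⟩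
  have hwi : PicF.IsInvertible w := by
    obtain ⟨e'⟩ := ew
    exact isInvertible_of_iso e'.symm hΩ
  have hw : Coh.IsQCoh w := (a.obj O).property _
  have hM : DCoh.IsQCohD ((singleFunctor X.Modules (-1)).obj
      ((homologyFunctor X.Modules (-1)).obj (a.obj O).obj)) :=
    PerfA.QCohD.isQCohD_single _ hw _
  obtain ⟨t, ht⟩ := LoccohB.TopBridge540.represent' A (-1) 0 1 (by norm_num) (DCoh.HD O.obj 0)
    (ModuleCat.of A A) (eV A) w (LoccohB.AdjD.univElt adj (-1) 0 O hM) (fun F => F = w)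
    (fun F hF => PerfA.QCohD.isQCohD_single _ (hF ▸ hw) _)
    (fun F hF => LoccohB.AdjD.lowest_cohomology_represents adj (-1) 0 O hM F
      (PerfA.QCohD.isQCohD_single _ (hF ▸ hw) _) (by
        subst hF
        have h3 := isLE_rpush_single f w 1 (fun p hp => CurveCoh.isZero_Rpush hX w
          (Ega3B.ChiFib.isFP_of_isInvertible hwi) (Ega3B.ChiFib.isFlatOver_of_isInvertible f hwi) p hp) (-1)
        exact h3))
  exact ⟨w, ew, t, fun ψ => ht w rfl ψ⟩

end K333.Trace
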