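import Groth.Agent.Curves.K333.TwoTermAlg
import Groth.Agent.CurvesB.GenComplex
import Groth.Agent.CurvesB.FreeHOne
import Groth.Agent.CurvesB.NodalHOne

/-!
# Families of curves: the cohomology is computed by a two-term complex

`exists_twoTerm`: `X` proper of finite presentation over `Spec A`, `F` of finite presentation and flat over
`A`, with `H^q = 0` for `q ≥ 2` on the closed fibres.  There is a map `d : K₀ → K₁` of finite projective
`A`-modules such that `H^0(X_B, F_B) = ker (d ⊗ B)`, `H^1(X_B, F_B) = coker (d ⊗ B)` for all `A → B`.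
-/

set_option autoImplicit false
universe u

open CategoryTheory CategoryTheory.Limits AlgebraicGeometry TensorProduct

namespace K333.TwoTerm

open Groth.Agent Groth.Agent.Ega3B Groth.Agent.Ega3B.MasterAsm Groth.Agent.CurvesB K333.TwoTermAlg

section Complex

variable {A : Type u} [CommRing A] (P : ChainComplex (ModuleCat.{u} A) ℤ)

theorem hasImRet (hP : ∀ i, Module.Finite A (P.X i) ∧ Module.Projective A (P.X i))
    (b : ℤ) (hb : ∀ i, i < b → IsZero (P.X i))
    (h2 : ∀ m : Ideal A, m.IsMaximal → ∀ i ≤ (-2 : ℤ), IsZero (CohIII.T P i (ModuleCat.of A (A ⧸ m))))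
    (i : ℤ) (hi : i ≤ -1) :
    ∃ r : P.X (i - 1) →ₗ[A] LinearMap.range (P.d i (i - 1)).hom,
      r ∘ₗ (LinearMap.range (P.d i (i - 1)).hom).subtype = LinearMap.id := by
  obtain ⟨r, hr⟩ := FreeHOne.hasRet P hP b hb h2 (i - 1) (by omega)
  have hex := (FreeHOne.step' P hP (i - 1) (fun m hm => h2 m hm _ (by omega))
    (FreeHOne.hasRet P hP b hb h2 (i - 1) (by omega))).1
  have hi : i - 1 + 1 = i := by ring
  rw [hi] at hex
  rw [LinearMap.exact_iff] at hex
  rw [← hex]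
  exact ⟨r, hr⟩

theorem rs_of_complex (hP : ∀ i, Module.Finite A (P.X i) ∧ Module.Projective A (P.X i))
    (b : ℤ) (hb : ∀ i, i < b → IsZero (P.X i))
    (h2 : ∀ m : Ideal A, m.IsMaximal → ∀ i ≤ (-2 : ℤ), IsZero (CohIII.T P i (ModuleCat.of A (A ⧸ m)))) :
    RS (P.d 0 (-1)).hom (P.d (-1) (-1 - 1)).hom where
  comp := by rw [← ModuleCat.hom_comp, P.d_comp_d]; rfl
  ret := FreeHOne.hasRet P hP b hb h2 (-1) le_rfl
  ret₂ := hasImRet P hP b hb h2 (-1) le_rfl

theorem exact_of_complex (hP : ∀ i, Module.Finite A (P.X i) ∧ Module.Projective A (P.X i))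
    (b : ℤ) (hb : ∀ i, i < b → IsZero (P.X i))
    (h2 : ∀ m : Ideal A, m.IsMaximal → ∀ i ≤ (-2 : ℤ), IsZero (CohIII.T P i (ModuleCat.of A (A ⧸ m))))
    (i : ℤ) (hi : i ≤ -2) (B : Type u) [CommRing B] [Algebra A B] :
    Function.Exact ((P.d (i + 1) i).hom.baseChange B) ((P.d i (i - 1)).hom.baseChange B) := by
  have hex := (FreeHOne.step' P hP i (fun m hm => h2 m hm _ (by omega))
    (FreeHOne.hasRet P hP b hb h2 i (by omega))).1
  exact exact_baseChange _ _ hex (hasImRet P hP b hb h2 i (by omega)) B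

section BC

variable {B : Type u} [CommRing B] (φ : A →+* B)

set_option backward.isDefEq.respectTransparency false in
/-- degree `≤ -2` -/
theorem bc_isZero (hP : ∀ i, Module.Finite A (P.X i) ∧ Module.Projective A (P.X i))
    (b : ℤ) (hb : ∀ i, i < b → IsZero (P.X i))
    (h2 : ∀ m : Ideal A, m.IsMaximal → ∀ i ≤ (-2 : ℤ), IsZero (CohIII.T P i (ModuleCat.of A (A ⧸ m))))
    (i : ℤ) (hi : i ≤ -2) : IsZero ((CohIII.bcCx φ P).homology i) := by
  let _ := φ.toAlgebra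
  refine FreeHOne.exact_of_function_exact (CohIII.bcCx φ P) (i + 1) i (i - 1) rfl (by ring) ?_
  exact exact_of_complex P hP b hb h2 i hi B

set_option backward.isDefEq.respectTransparency false in
theorem bc_homology_one (h : RS (P.d 0 (-1)).hom (P.d (-1) (-1 - 1)).hom) :
    letI := φ.toAlgebra
    Nonempty ((CohIII.bcCx φ P).homology (-1) ≃ₗ[B]
      ((B ⊗[A] (LinearMap.ker (P.d (-1) (-1 - 1)).hom)) ⧸ LinearMap.range (h.d.baseChange B))) := by
  let _ := φ.toAlgebra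
  have hgf : ((CohIII.bcCx φ P).d (-1) (-1 - 1)).hom ∘ₗ ((CohIII.bcCx φ P).d 0 (-1)).hom = 0 := by
    rw [← ModuleCat.hom_comp, HomologicalComplex.d_comp_d]; rfl
  let f' := ((CohIII.bcCx φ P).d 0 (-1)).hom.codRestrict
    (LinearMap.ker ((CohIII.bcCx φ P).d (-1) (-1 - 1)).hom) (fun x => LinearMap.congr_fun hgf x)
  obtain ⟨e⟩ := FreeHOne.homology_linearEquiv (CohIII.bcCx φ P) 0 (-1) (-1 - 1) rfl rfl f' (fun x => rfl)
  obtain ⟨e'⟩ := h.equiv B (K := LinearMap.ker ((CohIII.bcCx φ P).d (-1) (-1 - 1)).hom)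
    (LinearMap.ker ((CohIII.bcCx φ P).d (-1) (-1 - 1)).hom).subtype
    (Submodule.subtype_injective _) (Submodule.range_subtype _) f' (fun x => rfl)
  exact ⟨e.trans e'⟩

set_option backward.isDefEq.respectTransparency false in
theorem bc_homology_zero (h : RS (P.d 0 (-1)).hom (P.d (-1) (-1 - 1)).hom) (h1 : IsZero (P.X 1)) :
    letI := φ.toAlgebra
    Nonempty ((CohIII.bcCx φ P).homology 0 ≃ₗ[B] LinearMap.ker (h.d.baseChange B)) := by
  let _ := φ.toAlgebra
  have hz : IsZero ((CohIII.bcCx φ P).X 1) :=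
    (ModuleCat.extendScalars φ).map_isZero h1
  have hs : Subsingleton ((CohIII.bcCx φ P).X 1) := ModuleCat.subsingleton_of_isZero hz
  have hgf : ((CohIII.bcCx φ P).d 0 (-1)).hom ∘ₗ ((CohIII.bcCx φ P).d 1 0).hom = 0 := by
    rw [← ModuleCat.hom_comp, HomologicalComplex.d_comp_d]; rfl
  let f' := ((CohIII.bcCx φ P).d 1 0).hom.codRestrict
    (LinearMap.ker ((CohIII.bcCx φ P).d 0 (-1)).hom) (fun x => LinearMap.congr_fun hgf x)
  obtain ⟨e⟩ := FreeHOne.homology_linearEquiv (CohIII.bcCx φ P) 1 0 (-1) rfl rfl f' (fun x => rfl)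
  have hr : LinearMap.range f' = ⊥ := by
    rw [LinearMap.range_eq_bot]
    ext x
    have : x = 0 := Subsingleton.elim _ _
    rw [this, map_zero, map_zero]
  have e2 := Submodule.quotEquivOfEqBot _ hr
  have hk : LinearMap.ker (h.d.baseChange B) =
      LinearMap.ker ((CohIII.bcCx φ P).d 0 (-1)).hom := h.ker_d B
  rw [hk]
  exact ⟨e.trans e2⟩

end BC

end Complex

section Main

variable (A : Type u) [CommRing A] (X : Scheme.{u}) [X.Over (Spec (CommRingCat.of A))]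

/-- The hypothesis on the closed fibres: `H^q = 0` for `q ≥ 2`. -/
def FibVan (F : X.Modules) : Prop :=
  ∀ (m : Ideal A) [m.IsMaximal] (Y : Scheme.{u}) [Y.Over (Spec (CommRingCat.of (A ⧸ m)))]
    (j : Y ⟶ X) (_ : IsPullback j (Y ↘ Spec (CommRingCat.of (A ⧸ m)))
      (X ↘ Spec (CommRingCat.of A)) (Spec.map (CommRingCat.ofHom (Ideal.Quotient.mk m)))),
    ∀ q : ℕ, 2 ≤ q → Subsingleton (Coh.HH Y ((Scheme.Modules.pullback j).obj F) q)

/-- **Two-term complex** computing the cohomology of `F` universally. -/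
theorem exists_twoTerm [IsProper (X ↘ Spec (CommRingCat.of A))]
    [LocallyOfFinitePresentation (X ↘ Spec (CommRingCat.of A))]
    (F : X.Modules) (hF : CohB1.IsFP F)
    (hfl : FlatMod.IsFlatOver (X ↘ Spec (CommRingCat.of A)) F) (hvan : FibVan A X F) :
    ∃ (K₀ K₁ : Type u) (_ : AddCommGroup K₀) (_ : Module A K₀) (_ : AddCommGroup K₁) (_ : Module A K₁)
      (d : K₀ →ₗ[A] K₁), Module.Finite A K₀ ∧ Module.Projective A K₀ ∧ Module.Finite A K₁ ∧
      Module.Projective A K₁ ∧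
      ∀ (B : Type u) [CommRing B] (φ : A →+* B) (Y : Scheme.{u}) [Y.Over (Spec (CommRingCat.of B))]
        (j : Y ⟶ X) (_ : IsPullback j (Y ↘ Spec (CommRingCat.of B)) (X ↘ Spec (CommRingCat.of A))
          (Spec.map (CommRingCat.ofHom φ))) (F' : Y.Modules)
        (_ : Nonempty ((Scheme.Modules.pullback j).obj F ≅ F')),
        letI := φ.toAlgebra
        Nonempty (Coh.HH Y F' 0 ≃ₗ[B] LinearMap.ker (d.baseChange B)) ∧
        Nonempty (Coh.HH Y F' 1 ≃ₗ[B] ((B ⊗[A] K₁) ⧸ LinearMap.range (d.baseChange B))) ∧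
        ∀ q : ℕ, 2 ≤ q → Subsingleton (Coh.HH Y F' q) := by
  have i1 : CompactSpace X := QuasiCompact.compactSpace_of_compactSpace (X ↘ Spec (CommRingCat.of A))
  have hq : Coh.IsQCoh F := Models2.FPCoh.isQCoh_of_isFP hF
  obtain ⟨P, hP, ⟨b, hb⟩, hε, -⟩ := GenComplex.exists_complex A X F hF hfl
  have h2 : ∀ m : Ideal A, m.IsMaximal → ∀ i ≤ (-2 : ℤ),
      IsZero (CohIII.T P i (ModuleCat.of A (A ⧸ m))) := by
    intro m hm i hi
    obtain ⟨q, rfl⟩ : ∃ q : ℕ, i = -(q : ℤ) := ⟨(-i).toNat, by omega⟩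
    let Y : Scheme.{u} := pullback (X ↘ Spec (CommRingCat.of A))
      (Spec.map (CommRingCat.ofHom (Ideal.Quotient.mk m)))
    let iY : Y.Over (Spec (CommRingCat.of (A ⧸ m))) := ⟨pullback.snd _ _⟩
    have H : IsPullback (pullback.fst _ _) (Y ↘ Spec (CommRingCat.of (A ⧸ m)))
        (X ↘ Spec (CommRingCat.of A)) (Spec.map (CommRingCat.ofHom (Ideal.Quotient.mk m))) :=
      IsPullback.of_hasPullback _ _
    obtain ⟨E, -⟩ := GenFibre.exists_addEquiv (Ideal.Quotient.mk m) _ H F hq _ (Iso.refl _) q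
      (CohIII.TFun P (-(q : ℤ))) (hε q)
    have h3 := hvan m Y _ H q (by omega)
    have h4 : Subsingleton ((CohIII.TFun P (-(q : ℤ))).obj
        ((ModuleCat.restrictScalars (Ideal.Quotient.mk m)).obj (ModuleCat.of (A ⧸ m) (A ⧸ m)))) :=
      E.toEquiv.subsingleton
    exact IsZero.of_iso (ModuleCat.isZero_of_subsingleton _)
      ((CohIII.TFun P (-(q : ℤ))).mapIso (NodalHOne.kap m))
  have hb' : ∀ i, i < b → IsZero (P.X i) := fun i hi => hb i (Or.inl hi)
  have h := rs_of_complex P hP b hb' h2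
  have hZ := h.ret
  obtain ⟨r, hr⟩ := hZ
  have := (hP (-1)).1
  have := (hP (-1)).2
  refine ⟨P.X 0, LinearMap.ker (P.d (-1) (-1 - 1)).hom, _, _, _, _, h.d, (hP 0).1, (hP 0).2,
    Module.Finite.of_surjective r fun z => ⟨z, LinearMap.congr_fun hr z⟩,
    Module.Projective.of_split (LinearMap.ker (P.d (-1) (-1 - 1)).hom).subtype r hr, ?_⟩
  intro B _ φ Y _ j H F' ⟨e⟩
  have hB : ∀ p : ℕ, Nonempty (CohIII.tensorAFunctor B F' ⋙ CohIII.HAb Y p ≅
        CohIII.TFun (CohIII.bcCx φ P) (-(p : ℤ)) ⋙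
          forget₂ (ModuleCat.{u} B) AddCommGrpCat.{u}) := fun p =>
    GenMaster.baseChange φ j H F hq F' e P p (hε p)
  have hB' : ∀ p : ℕ, Nonempty ((CohIII.bcCx φ P).homology (-(p : ℤ)) ≃ₗ[B] Coh.HH Y F' p) :=
    fun p => nonempty_homology_equiv (A := B) F' (CohIII.bcCx φ P) p (hB p)
  refine ⟨?_, ?_, fun q hq2 => ?_⟩
  · obtain ⟨e0⟩ := hB' 0
    obtain ⟨e1⟩ := bc_homology_zero P φ h (hb 1 (Or.inr (by norm_num)))
    exact ⟨e0.symm.trans e1⟩
  · obtain ⟨e0⟩ := hB' 1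
    obtain ⟨e1⟩ := bc_homology_one P φ h
    exact ⟨e0.symm.trans e1⟩
  · obtain ⟨e0⟩ := hB' q
    have h5 := bc_isZero P φ hP b hb' h2 (-(q : ℤ)) (by omega)
    have h6 : Subsingleton ((CohIII.bcCx φ P).homology (-(q : ℤ))) := ModuleCat.subsingleton_of_isZero h5
    exact e0.symm.toEquiv.subsingleton

end Main

end K333.TwoTerm
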