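import Mathlib.LinearAlgebra.TensorProduct.RightExactness
import Mathlib.LinearAlgebra.TensorProduct.Tower
import Mathlib.RingTheory.TensorProduct.Basic
import Mathlib.RingTheory.Finiteness.Projective
import Mathlib.Algebra.Exact.Basic

/-!
# Linear algebra: a complex `P₀ → P₁ → P₂` which is split on the right
-/

set_option autoImplicit false
universe u v w

open TensorProduct

namespace K333.TwoTermAlg

variable {A : Type u} [CommRing A]
variable {P₀ P₁ P₂ : Type v} [AddCommGroup P₀] [Module A P₀] [AddCommGroup P₁] [Module A P₁]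
  [AddCommGroup P₂] [Module A P₂]

theorem injective_of_retraction {M N : Type v} [AddCommGroup M] [Module A M] [AddCommGroup N] [Module A N]
    (B : Type w) [CommRing B] [Algebra A B]
    (i : M →ₗ[A] N) (r : N →ₗ[A] M) (hr : r ∘ₗ i = LinearMap.id) :
    Function.Injective (i.baseChange B) := by
  have h : (r.baseChange B) ∘ₗ (i.baseChange B) = LinearMap.id := by
    rw [← LinearMap.baseChange_comp, hr, LinearMap.baseChange_id]
  intro x y hxy
  have := congrArg (r.baseChange B) hxy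
  rw [← LinearMap.comp_apply, ← LinearMap.comp_apply, h] at this
  simpa using this

/-- The kernel of `d₀ ⊗ B` when `d₀` has kernel a direct summand and image a direct summand. -/
theorem ker_baseChange (d₀ : P₁ →ₗ[A] P₂) (Z₂ : Submodule A P₂) (r₂ : P₂ →ₗ[A] Z₂)
    (hr₂ : r₂ ∘ₗ Z₂.subtype = LinearMap.id) (hZ₂ : LinearMap.range d₀ = Z₂)
    (B : Type w) [CommRing B] [Algebra A B] :
    LinearMap.ker (d₀.baseChange B) = LinearMap.range ((LinearMap.ker d₀).subtype.baseChange B) := by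
  let d' : P₁ →ₗ[A] Z₂ := d₀.codRestrict Z₂ (fun x => hZ₂ ▸ LinearMap.mem_range_self d₀ x)
  have hd' : Z₂.subtype ∘ₗ d' = d₀ := by ext x; rfl
  have hs : Function.Surjective d' := by
    rintro ⟨y, hy⟩
    rw [← hZ₂] at hy
    obtain ⟨x, rfl⟩ := hy
    exact ⟨x, rfl⟩
  have hk : LinearMap.ker d' = LinearMap.ker d₀ := by
    ext x
    simp only [LinearMap.mem_ker]
    exact ⟨fun h => congrArg Subtype.val h, fun h => Subtype.ext h⟩
  have hex : Function.Exact (LinearMap.ker d₀).subtype d' := by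
    rw [LinearMap.exact_iff, hk, Submodule.range_subtype]
  have h1 : Function.Exact ((LinearMap.ker d₀).subtype.baseChange B) (d'.baseChange B) :=
    lTensor_exact B hex hs
  have h2 : d₀.baseChange B = (Z₂.subtype.baseChange B) ∘ₗ (d'.baseChange B) := by
    rw [← LinearMap.baseChange_comp, hd']
  have h3 := injective_of_retraction B Z₂.subtype r₂ hr₂
  rw [← LinearMap.exact_iff.mp h1, h2]
  ext x
  simp only [LinearMap.mem_ker, LinearMap.comp_apply]
  exact ⟨fun h => h3 (h.trans (map_zero _).symm), fun h => by rw [h, map_zero]⟩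

/-- Exactness is preserved under base change when `d₀` has image a direct summand. -/
theorem exact_baseChange (d₁ : P₀ →ₗ[A] P₁) (d₀ : P₁ →ₗ[A] P₂) (hex : Function.Exact d₁ d₀)
    (hr₂ : ∃ r : P₂ →ₗ[A] LinearMap.range d₀, r ∘ₗ (LinearMap.range d₀).subtype = LinearMap.id)
    (B : Type w) [CommRing B] [Algebra A B] :
    Function.Exact (d₁.baseChange B) (d₀.baseChange B) := by
  obtain ⟨r, hr⟩ := hr₂
  have hk := ker_baseChange d₀ _ r hr rfl B
  let f : P₀ →ₗ[A] LinearMap.ker d₀ := d₁.codRestrict _ (fun x => hex.apply_apply_eq_zero x)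
  have hf : (LinearMap.ker d₀).subtype ∘ₗ f = d₁ := by ext x; rfl
  have hs : Function.Surjective f := by
    rintro ⟨y, hy⟩
    obtain ⟨x, rfl⟩ := (hex y).mp hy
    exact ⟨x, rfl⟩
  rw [LinearMap.exact_iff, hk, ← hf, LinearMap.baseChange_comp, LinearMap.range_comp]
  have h1 : LinearMap.range (f.baseChange B) = ⊤ := LinearMap.range_eq_top.mpr
    (LinearMap.lTensor_surjective B hs)
  rw [h1, Submodule.map_top]

/-- The data of a right-split complex `P₀ → P₁ → P₂`. -/
structure RS (d₁ : P₀ →ₗ[A] P₁) (d₀ : P₁ →ₗ[A] P₂) : Prop where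
  comp : d₀ ∘ₗ d₁ = 0
  ret : ∃ r : P₁ →ₗ[A] LinearMap.ker d₀, r ∘ₗ (LinearMap.ker d₀).subtype = LinearMap.id
  ret₂ : ∃ r : P₂ →ₗ[A] LinearMap.range d₀, r ∘ₗ (LinearMap.range d₀).subtype = LinearMap.id

/-- The corestriction of the differential. -/
noncomputable def RS.d {d₁ : P₀ →ₗ[A] P₁} {d₀ : P₁ →ₗ[A] P₂} (h : RS d₁ d₀) :
    P₀ →ₗ[A] LinearMap.ker d₀ :=
  d₁.codRestrict _ (fun x => LinearMap.congr_fun h.comp x)

theorem RS.subtype_comp_d {d₁ : P₀ →ₗ[A] P₁} {d₀ : P₁ →ₗ[A] P₂} (h : RS d₁ d₀) :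
    (LinearMap.ker d₀).subtype ∘ₗ h.d = d₁ := by ext x; rfl

variable {d₁ : P₀ →ₗ[A] P₁} {d₀ : P₁ →ₗ[A] P₂} (h : RS d₁ d₀)
variable (B : Type w) [CommRing B] [Algebra A B]

include h

theorem RS.injective : Function.Injective ((LinearMap.ker d₀).subtype.baseChange B) := by
  obtain ⟨r, hr⟩ := h.ret
  exact injective_of_retraction B _ r hr

theorem RS.ker : LinearMap.ker (d₀.baseChange B) =
    LinearMap.range ((LinearMap.ker d₀).subtype.baseChange B) := by
  obtain ⟨r, hr⟩ := h.ret₂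
  exact ker_baseChange d₀ _ r hr rfl B

/-- degree zero: the kernel of `d₁ ⊗ B` is the kernel of `d ⊗ B` -/
theorem RS.ker_d : LinearMap.ker (h.d.baseChange B) = LinearMap.ker (d₁.baseChange B) := by
  have h2 : d₁.baseChange B = ((LinearMap.ker d₀).subtype.baseChange B) ∘ₗ (h.d.baseChange B) := by
    rw [← LinearMap.baseChange_comp, h.subtype_comp_d]
  have h3 := h.injective B
  rw [h2]
  ext x
  simp only [LinearMap.mem_ker, LinearMap.comp_apply]
  exact ⟨fun h => by rw [h, map_zero], fun h => h3 (h.trans (map_zero _).symm)⟩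

/-- degree one -/
theorem RS.equiv {K : Type*} [AddCommGroup K] [Module B K] (κ : K →ₗ[B] B ⊗[A] P₁)
    (hκ : Function.Injective κ) (hκ' : LinearMap.range κ = LinearMap.ker (d₀.baseChange B))
    (f' : B ⊗[A] P₀ →ₗ[B] K) (hf' : ∀ x, κ (f' x) = d₁.baseChange B x) :
    Nonempty ((K ⧸ LinearMap.range f') ≃ₗ[B]
      ((B ⊗[A] (LinearMap.ker d₀)) ⧸ LinearMap.range (h.d.baseChange B))) := by
  have hr : ∀ x, ((LinearMap.ker d₀).subtype.baseChange B) x ∈ LinearMap.range κ := fun x => by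
    rw [hκ', h.ker B]; exact ⟨x, rfl⟩
  let e₀ : K ≃ₗ[B] LinearMap.range κ := LinearEquiv.ofInjective κ hκ
  let ζ : B ⊗[A] (LinearMap.ker d₀) →ₗ[B] K :=
    e₀.symm.toLinearMap ∘ₗ ((LinearMap.ker d₀).subtype.baseChange B).codRestrict _ hr
  have hκζ : κ ∘ₗ ζ = (LinearMap.ker d₀).subtype.baseChange B := by
    ext x
    change κ (e₀.symm _) = _
    have := congrArg Subtype.val (e₀.apply_symm_apply
      ((((LinearMap.ker d₀).subtype.baseChange B).codRestrict _ hr) (1 ⊗ₜ x)))
    exact this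
  have hζ : Function.Bijective ζ := by
    refine ⟨fun x y hxy => h.injective B ?_, fun y => ?_⟩
    · have h1 : (κ ∘ₗ ζ) x = (κ ∘ₗ ζ) y := congrArg κ hxy
      rwa [hκζ] at h1
    · have hy : κ y ∈ LinearMap.range κ := ⟨y, rfl⟩
      rw [hκ', h.ker B] at hy
      obtain ⟨x, hx⟩ := hy
      refine ⟨x, hκ ?_⟩
      rw [← hx]
      exact LinearMap.congr_fun hκζ x
  let e := LinearEquiv.ofBijective ζ hζ
  have he : ζ ∘ₗ (h.d.baseChange B) = f' := by
    refine LinearMap.ext fun x => ?_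
    apply hκ
    change (κ ∘ₗ ζ) (h.d.baseChange B x) = κ (f' x)
    rw [hf', hκζ, ← LinearMap.comp_apply, ← LinearMap.baseChange_comp, h.subtype_comp_d]
  refine ⟨(Submodule.Quotient.equiv _ _ e ?_).symm⟩
  rw [← he, LinearMap.range_comp]
  rfl

end K333.TwoTermAlg
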