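import Groth.Agent.Curves.K333.OmegaFam
import Groth.Agent.S18911
import Groth.Agent.S12474
import Groth.Agent.S12467

/-!
# Relative very ampleness of the powers of `Ω`
-/

set_option autoImplicit false
universe u
open CategoryTheory CategoryTheory.Limits AlgebraicGeometry

namespace K333.VACond

open Groth.Agent K333.Fam K333.OmegaFam

/-- over a locally Noetherian base -/
theorem noeth {X S : Scheme.{u}} [IsLocallyNoetherian S] {f : X ⟶ S} {g : ℕ} (hf : IsCurve f g)
    (hg : 2 ≤ g) (n : ℕ) (hn : 3 ≤ n) :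
    RelProj.IsRelVeryAmple f (CohB1.tensorPow (Omega.sheaf f) n) := by
  have h1 := hf.proper
  have h2 := hf.smooth
  exact Groth.Agent.S18911.result f _ (isInvertible_pow hf n) (fun s => (fibre hf hg n hn s).1)
    (fun s => (fibre hf hg n hn s).2)

theorem affine {X S : Scheme.{u}} [IsAffine S] {f : X ⟶ S} {g : ℕ} (hf : IsCurve f g)
    (hg : 2 ≤ g) (n : ℕ) (hn : 3 ≤ n) :
    RelProj.IsRelVeryAmple f (CohB1.tensorPow (Omega.sheaf f) n) := by
  obtain ⟨S₀, X₀, f₀, u, v, h1, h2, -, H, h0⟩ := Approx.exists_model_affine hf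
  have hN : IsNoetherianRing Γ(S₀, ⊤) := Algebra.FiniteType.isNoetherianRing ℤ _
  have hL : IsLocallyNoetherian S₀ := isLocallyNoetherian_of_isOpenImmersion S₀.isoSpec.hom
  obtain ⟨e⟩ := nonempty_bc H h0 n
  exact isRelVeryAmple_congr e (Groth.Agent.S12474.result f₀ u v f H _ (isInvertible_pow h0 n)
    (noeth h0 hg n hn))

theorem main {X S : Scheme.{u}} {f : X ⟶ S} {g : ℕ} (hf : IsCurve f g)
    (hg : 2 ≤ g) (n : ℕ) (hn : 3 ≤ n) :
    RelProj.IsRelVeryAmple f (CohB1.tensorPow (Omega.sheaf f) n) := by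
  have h1 := hf.proper
  have h2 := hf.rel
  refine (Groth.Agent.S12467.result f _ (isInvertible_pow hf n) (fun V : S.affineOpens => V.1)
    (iSup_affineOpens_eq_top S)).2 fun V => ?_
  have H : IsPullback (f ⁻¹ᵁ V.1).ι (f ∣_ V.1) f V.1.ι := (isPullback_morphismRestrict f V.1).flip
  have : IsAffine V.1 := V.2
  obtain ⟨e⟩ := nonempty_bc H hf n
  exact isRelVeryAmple_congr (e.symm ≪≫
    ((Scheme.Modules.restrictFunctorIsoPullback _).app _).symm) (affine (hf.baseChange H) hg n hn)

end K333.VACond
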